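import Groth.Agent.Lib.Isoc.Fitting
import Mathlib.Algebra.DirectSum.LinearMap
import Mathlib.LinearAlgebra.Finsupp.Span

/-!
# The slope decomposition
-/

open scoped Isocrystal Pointwise

universe u v w

namespace Groth.Agent.Lib.Isoc.Decomp

open Groth.Agent.Lib.Isoc.Order Groth.Agent.Lib.Isoc.Lattice Groth.Agent.Lib.Isoc.Det
  Groth.Agent.Lib.Isoc.Isoclinic

noncomputable section

variable {p : ℕ} [Fact p.Prime] {k : Type u} [Field k] [CharP k p] [PerfectRing k p]
variable {N : Type v} [AddCommGroup N] [Module (WittVector p k) N] [Module K(p, k) N]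
  [IsScalarTower (WittVector p k) K(p, k) N]
variable {τ : K(p, k) →+* K(p, k)} {F : N →ₛₗ[τ] N}

section Map

variable {N' : Type w} [AddCommGroup N'] [Module (WittVector p k) N'] [Module K(p, k) N']
  [IsScalarTower (WittVector p k) K(p, k) N'] {F' : N' →ₛₗ[τ] N'}

omit [CharP k p] [PerfectRing k p] [Module (WittVector p k) N]
  [IsScalarTower (WittVector p k) K(p, k) N] [Module (WittVector p k) N']
  [IsScalarTower (WittVector p k) K(p, k) N'] in
theorem map_iterate (f : N →ₗ[K(p, k)] N') (hf : ∀ x, f (F x) = F' (f x)) (n : ℕ) (x : N) :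
    f ((⇑F)^[n] x) = (⇑F')^[n] (f x) := by
  induction n with
  | zero => rfl
  | succ n ih => rw [Function.iterate_succ_apply', Function.iterate_succ_apply', hf, ih]

omit [PerfectRing k p] in
theorem map_latImg (f : N →ₗ[K(p, k)] N') (hf : ∀ x, f (F x) = F' (f x)) (s : ℕ)
    (X : Submodule (WittVector p k) N) :
    (Isoc.latImg F s X).map (f.restrictScalars (WittVector p k)) =
      Isoc.latImg F' s (X.map (f.restrictScalars (WittVector p k))) := by
  simp only [Isoc.latImg, Submodule.map_span, Submodule.map_coe, Set.image_image,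
    LinearMap.restrictScalars_apply, map_iterate f hf]

omit [PerfectRing k p] in
theorem map_pPow (f : N →ₗ[K(p, k)] N') (r : ℤ) (X : Submodule (WittVector p k) N) :
    (Isoc.pPow r X).map (f.restrictScalars (WittVector p k)) =
      Isoc.pPow r (X.map (f.restrictScalars (WittVector p k))) := by
  ext y
  simp only [mem_pPow_iff, Submodule.mem_map, LinearMap.restrictScalars_apply]
  constructor
  · rintro ⟨x, hx, rfl⟩
    exact ⟨_, hx, map_smul f _ _⟩
  · rintro ⟨x, hx, hxy⟩
    refine ⟨(p : K(p, k)) ^ r • x, ?_, ?_⟩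
    · rwa [smul_smul, ← zpow_add₀ p_ne_zero, neg_add_cancel, zpow_zero, one_smul]
    · rw [map_smul, hxy, smul_smul, ← zpow_add₀ p_ne_zero, add_neg_cancel, zpow_zero, one_smul]

omit [PerfectRing k p] in
theorem isoOn_map (f : N →ₗ[K(p, k)] N') (hf : ∀ x, f (F x) = F' (f x))
    {P : Submodule K(p, k) N} {μ : ℚ} (h : IsoOn F P μ) : IsoOn F' (P.map f) μ := by
  obtain ⟨X, hX, hXP, hPX, r, s, hs, hμ, heq⟩ := h
  refine ⟨X.map (f.restrictScalars (WittVector p k)), hX.map _, ?_, ?_, r, s, hs, hμ, ?_⟩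
  · rintro _ ⟨x, hx, rfl⟩
    exact Submodule.mem_map_of_mem (hXP x hx)
  · refine (Submodule.map_mono hPX).trans ?_
    rw [Submodule.map_span, Submodule.map_coe]
    exact le_rfl
  · rw [← map_latImg f hf, heq, map_pPow]

omit [CharP k p] [PerfectRing k p] [Module (WittVector p k) N]
  [IsScalarTower (WittVector p k) K(p, k) N] [Module (WittVector p k) N']
  [IsScalarTower (WittVector p k) K(p, k) N'] in
theorem stable_map (f : N →ₗ[K(p, k)] N') (hf : ∀ x, f (F x) = F' (f x))
    {P : Submodule K(p, k) N} (hP : ∀ x ∈ P, F x ∈ P) : ∀ y ∈ P.map f, F' y ∈ P.map f := by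
  rintro _ ⟨x, hx, rfl⟩
  exact ⟨F x, hP x hx, hf x⟩

end Map

theorem isoOn_mono (hτ : Good τ) (hF : Isoc.IsIsoc F) {P R : Submodule K(p, k) N} {μ : ℚ}
    (hP : ∀ x ∈ P, F x ∈ P) (hR : ∀ x ∈ R, F x ∈ R) (hle : R ≤ P) (h : IsoOn F P μ) :
    IsoOn F R μ := by
  have hR' : ∀ x ∈ R.comap P.subtype, F.restrict hP x ∈ R.comap P.subtype := fun x hx => hR _ hx
  have h1 := isoOn_of_isIsoclinic hτ hR'
    (isIsoclinic_restrict hτ (isIsoc_restrict hτ hF hP) (h.isIsoclinic hτ hP) hR')
  have h2 := isoOn_map (F' := F) P.subtype (fun _ => rfl) h1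
  rwa [Submodule.map_comap_subtype, inf_eq_right.2 hle] at h2

theorem isoOn_unique (hτ : Good τ) (hF : Isoc.IsIsoc F) {R : Submodule K(p, k) N} {μ ν : ℚ}
    (hR : ∀ x ∈ R, F x ∈ R) (hμ : IsoOn F R μ) (hν : IsoOn F R ν) (hne : μ ≠ ν) : R = ⊥ := by
  by_contra h0
  have : Nontrivial R := Submodule.nontrivial_iff_ne_bot.2 h0
  exact hne (slope_unique hτ (isIsoc_restrict hτ hF hR) (hμ.isIsoclinic hτ hR)
    (hν.isIsoclinic hτ hR))

theorem disjoint_finset (hτ : Good τ) (hF : Isoc.IsIsoc F) :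
    ∀ (t : Finset ℚ) (μ : ℚ), μ ∉ t →
      Disjoint (Isoc.slopePart F μ) (t.sup (Isoc.slopePart F)) := by
  classical
  have := hF.finite
  have hst : ∀ t : Finset ℚ, ∀ x ∈ t.sup (Isoc.slopePart F), F x ∈ t.sup (Isoc.slopePart F) := by
    intro t
    induction t using Finset.induction with
    | empty =>
      intro x hx
      rw [Finset.sup_empty, Submodule.mem_bot] at hx ⊢
      rw [hx, map_zero]
    | insert a t _ ih =>
      intro x hx
      rw [Finset.sup_insert] at hx ⊢
      obtain ⟨u, hu, w, hw, rfl⟩ := Submodule.mem_sup.1 hx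
      rw [map_add]
      exact Submodule.add_mem_sup ((slopePart_spec hτ hF a).1 u hu) (ih w hw)
  intro t
  induction t using Finset.induction with
  | empty => simp
  | insert ν t hνt ih =>
    intro μ hμ
    rw [Finset.mem_insert, not_or] at hμ
    rw [Finset.sup_insert]
    let W := t.sup (Isoc.slopePart F)
    have hW : W ≤ W.comap F := hst t
    let F' := W.mapQ W F hW
    have hF' : Isoc.IsIsoc F' := by
      refine ⟨inferInstance, (injective_iff_map_eq_zero F').2 fun q hq => ?_, fun q => ?_⟩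
      · obtain ⟨x, rfl⟩ := Submodule.Quotient.mk_surjective W q
        rw [Submodule.mapQ_apply, Submodule.Quotient.mk_eq_zero] at hq
        obtain ⟨y, hy, hyx⟩ := surjOn_of_stable hτ hF (hst t) _ hq
        rw [Submodule.Quotient.mk_eq_zero]
        exact hF.bijective.1 hyx ▸ hy
      · obtain ⟨x, rfl⟩ := Submodule.Quotient.mk_surjective W q
        obtain ⟨y, rfl⟩ := hF.bijective.2 x
        exact ⟨Submodule.Quotient.mk y, rfl⟩
    have hf : ∀ x, W.mkQ (F x) = F' (W.mkQ x) := fun _ => rfl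
    obtain ⟨hsμ, hiμ⟩ := slopePart_spec hτ hF μ
    obtain ⟨hsν, hiν⟩ := slopePart_spec hτ hF ν
    have hRs : ∀ y ∈ (Isoc.slopePart F μ).map W.mkQ ⊓ (Isoc.slopePart F ν).map W.mkQ,
        F' y ∈ (Isoc.slopePart F μ).map W.mkQ ⊓ (Isoc.slopePart F ν).map W.mkQ :=
      fun y hy => ⟨stable_map _ hf hsμ y hy.1, stable_map _ hf hsν y hy.2⟩
    have hR0 := isoOn_unique hτ hF' hRs
      (isoOn_mono hτ hF' (stable_map _ hf hsμ) hRs inf_le_left (isoOn_map _ hf hiμ))
      (isoOn_mono hτ hF' (stable_map _ hf hsν) hRs inf_le_right (isoOn_map _ hf hiν)) hμ.1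
    rw [Submodule.disjoint_def]
    intro x hx hx'
    obtain ⟨a, ha, w, hw, rfl⟩ := Submodule.mem_sup.1 hx'
    have h1 : W.mkQ (a + w) ∈ (Isoc.slopePart F μ).map W.mkQ ⊓ (Isoc.slopePart F ν).map W.mkQ :=
      ⟨Submodule.mem_map_of_mem hx, a, ha, by
        rw [map_add, Submodule.mkQ_apply (x := w), (Submodule.Quotient.mk_eq_zero W).2 hw,
          add_zero]⟩
    rw [hR0, Submodule.mem_bot, Submodule.mkQ_apply, Submodule.Quotient.mk_eq_zero] at h1
    exact Submodule.disjoint_def.1 (ih μ hμ.2) _ hx h1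

theorem iSupIndep_slopePart (hτ : Good τ) (hF : Isoc.IsIsoc F) :
    iSupIndep (fun μ : ℚ => Isoc.slopePart F μ) := by
  classical
  refine iSupIndep_def.2 fun μ => Submodule.disjoint_def.2 fun x hx hx' => ?_
  obtain ⟨s, hs⟩ := Submodule.mem_iSup_iff_exists_finset.1 hx'
  refine Submodule.disjoint_def.1
    (disjoint_finset hτ hF (s.filter (· ≠ μ)) μ (by simp)) x hx ?_
  refine (iSup₂_le fun i hi => iSup_le fun hne => ?_ :
    (⨆ i ∈ s, ⨆ (_ : i ≠ μ), Isoc.slopePart F i) ≤ _) hs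
  exact Finset.le_sup (f := Isoc.slopePart F) (Finset.mem_filter.2 ⟨hi, hne⟩)

/-- A nonzero isocrystal splits off a nonzero isoclinic part. -/
theorem exists_split [Nontrivial N] (hτ : Good τ) (hF : Isoc.IsIsoc F) :
    ∃ (μ : ℚ) (S Q : Submodule K(p, k) N), S ≠ ⊥ ∧ IsCompl S Q ∧
      (∀ x ∈ S, F x ∈ S) ∧ (∀ x ∈ Q, F x ∈ Q) ∧ IsoOn F S μ := by
  have := hF.finite
  obtain ⟨lam, hlam⟩ := Slope.exists_isFirstSlope hτ hF
  obtain ⟨r, s, hs, -, hlameq⟩ := Slope.exists_rat_eq_slope hτ hF hlam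
  let G := tw F (-r) s
  have hτs := good_pow hτ s
  have hG : Isoc.IsIsoc G := isIsoc_tw hF (-r) s
  have hslope : Isoc.IsFirstSlope G 0 := by
    have h := Slope.isFirstSlope_tw hτ hF hlam (-r) s
    have h0 : (s : ℝ) * lam + ((-r : ℤ) : ℝ) = 0 := by
      have : (s : ℝ) ≠ 0 := by exact_mod_cast hs.ne'
      rw [hlameq]
      push_cast
      field_simp
      ring
    rwa [h0] at h
  obtain ⟨M, hM, hGM⟩ := Slope.exists_stable_of_slope_nonneg hτs hG hslope le_rfl
  obtain ⟨T, S, hTeq, hTfg, hSeq, hGT, hcompl, hne, hmax⟩ := Fitting.decomposition hτs hG hM hGM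
  have hS0 : S ≠ ⊥ := hne fun n hn => by
    rcases Nat.eq_zero_or_pos n with rfl | hpos
    · rw [latImg_zero] at hn
      have h1 := Slope.le_slope_of_latImg_le hτs hG hslope hM (s := 1) one_pos
        ((latImg_mono hn 1).trans ((latImg_pPow hτs 1 1).trans_le (pPow_mono hGM 1)))
      norm_num at h1
    · have h1 := Slope.le_slope_of_latImg_le hτs hG hslope hM hpos hn
      have h2 : (0 : ℝ) < ((1 : ℤ) : ℝ) / n := by positivity
      linarith
  have hGn : ∀ n, Isoc.latImg G n T = T := by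
    intro n
    induction n with
    | zero => rw [latImg_zero]
    | succ n ih => rw [add_comm, ← latImg_latImg hτs, ih, hGT]
  have hcomm : Function.Commute (⇑G) (⇑F) := fun x => by
    change (p : K(p, k)) ^ (-r) • (⇑F)^[s] (F x) = F ((p : K(p, k)) ^ (-r) • (⇑F)^[s] x)
    rw [map_smulₛₗ, map_zpow_p, ← Function.iterate_succ_apply, Function.iterate_succ_apply']
  have hTM : T ≤ M := hTeq.le.trans inf_le_left
  have hFS : ∀ x ∈ S, F x ∈ S := by
    obtain ⟨c, hc⟩ := exists_le_pPow hM (isLattice_latImg hτ hF.bijective.2 hM 1).fg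
    intro x hx
    rw [hSeq] at hx
    induction hx using Submodule.span_induction with
    | mem t ht =>
      have hy : (p : K(p, k)) ^ (-c) • F t ∈ T := hmax _ fun n => by
        obtain ⟨t', ht', htt⟩ := (mem_latImg hτs).1 ((hGn n).symm.le ht)
        refine ⟨(p : K(p, k)) ^ (-c) • F t', ?_, ?_⟩
        · exact mem_pPow_iff.1 (hc ((mem_latImg hτ).2 ⟨t', hTM ht', Function.iterate_one _ ▸ rfl⟩))
        · rw [iterate_zpow_smul, hcomm.iterate_left n t', htt]
      have := S.smul_mem ((p : K(p, k)) ^ c) (hSeq ▸ Submodule.subset_span hy :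
        (p : K(p, k)) ^ (-c) • F t ∈ S)
      rwa [smul_smul, ← zpow_add₀ p_ne_zero, add_neg_cancel, zpow_zero, one_smul] at this
    | zero => rw [map_zero]; exact zero_mem _
    | add a b _ _ ha hb => rw [map_add]; exact add_mem ha hb
    | smul c a _ ha => rw [map_smulₛₗ]; exact S.smul_mem _ ha
  have hFQ : ∀ x ∈ Fitting.nil hτs G M, F x ∈ Fitting.nil hτs G M := by
    obtain ⟨c, hc⟩ := exists_le_pPow hM (isLattice_latImg hτ hF.bijective.2 hM 1).fg
    intro x hx j
    obtain ⟨n, hn⟩ := hx ((j : ℤ) - c).toNat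
    refine ⟨n, fun m hm => ?_⟩
    rw [hcomm.iterate_left m x]
    have h1 : F ((⇑G)^[m] x) ∈
        Isoc.latImg F 1 (Isoc.pPow ((((j : ℤ) - c).toNat : ℕ) : ℤ) M) :=
      (mem_latImg hτ).2 ⟨_, hn m hm, Function.iterate_one _ ▸ rfl⟩
    rw [latImg_pPow hτ] at h1
    have h2 := pPow_mono hc _ h1
    rw [pPow_pPow] at h2
    exact pPow_anti (by omega) h2
  refine ⟨(r : ℚ) / s, S, Fitting.nil hτs G M, hS0, hcompl, hFS, hFQ, T, hTfg,
    fun x hx => (hTeq.le hx).2, hSeq.le, r, s, hs, rfl, ?_⟩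
  have h := hGT
  rw [latImg_tw hτ, mul_one, Nat.cast_one, one_mul] at h
  conv_rhs => rw [← h, pPow_pPow, add_neg_cancel, pPow_zero]

theorem le_iSup_slopePart (hτ : Good τ) (hF : Isoc.IsIsoc F) :
    ∀ (d : ℕ) (P : Submodule K(p, k) N), Module.finrank K(p, k) P ≤ d → (∀ x ∈ P, F x ∈ P) →
      P ≤ ⨆ μ : ℚ, Isoc.slopePart F μ := by
  have := hF.finite
  intro d
  induction d with
  | zero =>
    intro P hP _
    rw [Submodule.finrank_eq_zero.1 (Nat.le_zero.1 hP)]
    exact bot_le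
  | succ d ih =>
    intro P hP hPF
    by_cases hP0 : P = ⊥
    · rw [hP0]; exact bot_le
    have : Nontrivial P := Submodule.nontrivial_iff_ne_bot.2 hP0
    obtain ⟨μ, S, Q, hS0, hcompl, hFS, hFQ, hiso⟩ := exists_split hτ (isIsoc_restrict hτ hF hPF)
    have hf : ∀ x, P.subtype (F.restrict hPF x) = F (P.subtype x) := fun _ => rfl
    have hQlt : Module.finrank K(p, k) Q < Module.finrank K(p, k) P := by
      have h1 := Submodule.finrank_add_eq_of_isCompl hcompl
      have h2 : Module.finrank K(p, k) S ≠ 0 := fun h => hS0 (Submodule.finrank_eq_zero.1 h)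
      omega
    have hP' : P = S.map P.subtype ⊔ Q.map P.subtype := by
      rw [← Submodule.map_sup, hcompl.sup_eq_top, Submodule.map_subtype_top]
    rw [hP']
    refine sup_le (le_iSup_of_le μ (le_slopePart hτ (stable_map _ hf hFS) (isoOn_map _ hf hiso)))
      (ih _ ?_ (stable_map _ hf hFQ))
    rw [Submodule.finrank_map_subtype_eq]
    omega

theorem isInternal_slopePart (hτ : Good τ) (hF : Isoc.IsIsoc F) :
    DirectSum.IsInternal (fun μ : ℚ => Isoc.slopePart F μ) := by
  rw [DirectSum.isInternal_submodule_iff_iSupIndep_and_iSup_eq_top]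
  refine ⟨iSupIndep_slopePart hτ hF, top_le_iff.1 ?_⟩
  exact le_iSup_slopePart hτ hF _ ⊤ le_rfl fun _ _ => Submodule.mem_top

omit [CharP k p] [PerfectRing k p] [Module (WittVector p k) N]
  [IsScalarTower (WittVector p k) K(p, k) N] in
theorem mat_diag_comp {h : ℕ} (c : Module.Basis (Fin h) K(p, k) N) (coef : Fin h → K(p, k))
    (H : N →ₛₗ[τ] N) :
    mat c ((c.constr ℕ fun j => coef j • c j).comp H) = Matrix.diagonal coef * mat c H := by
  ext i j
  simp only [mat, Matrix.diagonal_mul, Matrix.of_apply, LinearMap.comp_apply,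
    Module.Basis.constr_apply_fintype, Module.Basis.equivFun_apply]
  rw [map_sum, Finsupp.finsetSum_apply, Finset.sum_eq_single i]
  · rw [map_smul, map_smul, Module.Basis.repr_self, Finsupp.smul_apply, Finsupp.smul_apply,
      Finsupp.single_eq_same, smul_eq_mul, smul_eq_mul, mul_one, mul_comm]
  · intro l _ hl
    rw [map_smul, map_smul, Module.Basis.repr_self, Finsupp.smul_apply, Finsupp.smul_apply,
      Finsupp.single_eq_of_ne hl.symm, smul_zero, smul_zero]
  · simp

theorem sum_mul_mult_eq (hτ : Good τ) (hF : Isoc.IsIsoc F) {h : ℕ}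
    (b : Module.Basis (Fin h) K(p, k) N) {d : ℤ} (hd : Isoc.IsOrdP (Isoc.detCoeff b F) d) :
    ∑ᶠ μ : ℚ, μ * (Isoc.newtonMult F μ : ℚ) = d := by
  classical
  have := hF.finite
  have hint := DirectSum.isInternal_ne_bot_iff.2 (isInternal_slopePart hτ hF)
  have hfin : Fintype {μ : ℚ // Isoc.slopePart F μ ≠ ⊥} :=
    (iSupIndep_slopePart hτ hF).fintypeNeBotOfFiniteDimensional
  choose X hXfg hXP hPX r s hs hμ heq using
    fun i : {μ : ℚ // Isoc.slopePart F μ ≠ ⊥} => (slopePart_spec hτ hF (i : ℚ)).2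
  -- a common exponent
  let S : ℕ := ∏ i, s i
  have hS : 0 < S := Finset.prod_pos fun i _ => hs i
  have hdvd : ∀ i, ∃ n : ℕ, S = n * s i := fun i => by
    obtain ⟨n, hn⟩ := Finset.dvd_prod_of_mem s (Finset.mem_univ i)
    exact ⟨n, hn.trans (mul_comm _ _)⟩
  choose n hn using hdvd
  have heqS : ∀ i, Isoc.latImg F S (X i) = Isoc.pPow (n i * r i) (X i) := fun i => by
    rw [hn i]; exact latImg_mul_eq hτ (heq i) (n i)
  let bs := fun i : {μ : ℚ // Isoc.slopePart F μ ≠ ⊥} =>
    Module.finBasis K(p, k) (Isoc.slopePart F (i : ℚ))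
  let c0 := hint.collectedBasis bs
  have hcard := (Module.finrank_eq_card_basis c0).symm.trans
    ((Module.finrank_eq_card_basis b).trans (Fintype.card_fin h))
  let e := Fintype.equivFinOfCardEq hcard
  let c := c0.reindex e
  let coef : Fin h → K(p, k) := fun j => (p : K(p, k)) ^ (-((n (e.symm j).1 : ℤ) * r (e.symm j).1))
  let D : N →ₗ[K(p, k)] N := c.constr ℕ fun j => coef j • c j
  have hD : ∀ (i : {μ : ℚ // Isoc.slopePart F μ ≠ ⊥}), ∀ x ∈ Isoc.slopePart F (i : ℚ), D x = (p : K(p, k)) ^ (-((n i : ℤ) * r i)) • x := by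
    intro i x hx
    have key : D.comp (Isoc.slopePart F (i : ℚ)).subtype =
        (p : K(p, k)) ^ (-((n i : ℤ) * r i)) • (Isoc.slopePart F (i : ℚ)).subtype := by
      refine (bs i).ext fun a => ?_
      have hc : c (e ⟨i, a⟩) = ((bs i a : Isoc.slopePart F (i : ℚ)) : N) := by
        simp only [c, Module.Basis.reindex_apply, Equiv.symm_apply_apply, c0]
        exact congrFun (hint.collectedBasis_coe bs) ⟨i, a⟩
      rw [LinearMap.comp_apply, LinearMap.smul_apply, Submodule.coe_subtype, ← hc,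
        Module.Basis.constr_basis]
      simp only [coef, Equiv.symm_apply_apply]
    exact LinearMap.congr_fun key ⟨x, hx⟩
  let G : N →ₛₗ[τ ^ S] N := D.comp (Isoc.iter F S)
  have hFS : ∀ (i : {μ : ℚ // Isoc.slopePart F μ ≠ ⊥}), ∀ x ∈ X i,
      (⇑F)^[S] x ∈ Isoc.slopePart F (i : ℚ) := by
    intro i x hx
    have h0 := ((⇑(F.restrict (slopePart_spec hτ hF (i : ℚ)).1))^[S] ⟨x, hXP i x hx⟩).2
    rwa [iterate_restrict] at h0
  have hGX : ∀ i, Isoc.latImg G 1 (X i) = X i := by
    intro i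
    ext y
    rw [mem_latImg (good_pow hτ S)]
    constructor
    · rintro ⟨x, hx, rfl⟩
      rw [Function.iterate_one]
      change D ((⇑F)^[S] x) ∈ X i
      rw [hD i _ (hFS i x hx)]
      exact mem_pPow_iff.1 (heqS i ▸ (mem_latImg hτ).2 ⟨x, hx, rfl⟩)
    · intro hy
      have h1 : (p : K(p, k)) ^ ((n i : ℤ) * r i) • y ∈ Isoc.latImg F S (X i) :=
        heqS i ▸ zpow_smul_mem hy
      obtain ⟨x, hx, hxy⟩ := (mem_latImg hτ).1 h1
      refine ⟨x, hx, ?_⟩
      rw [Function.iterate_one]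
      change D ((⇑F)^[S] x) = y
      rw [hD i _ (hFS i x hx), hxy, smul_smul, ← zpow_add₀ p_ne_zero, neg_add_cancel, zpow_zero,
        one_smul]
  let M : Submodule (WittVector p k) N := Finset.univ.sup X
  have hM : M.IsLattice K(p, k) := by
    refine ⟨Submodule.fg_finset_sup _ _ fun i _ => hXfg i, top_le_iff.1 ?_⟩
    rw [← hint.submodule_iSup_eq_top]
    exact iSup_le fun i => (hPX i).trans
      (Submodule.span_mono fun x hx => Finset.le_sup (f := X) (Finset.mem_univ i) hx)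
  have hGM : Isoc.latImg G 1 M = M := by
    refine le_antisymm (latImg_le_iff.2 fun m hm => ?_) (Finset.sup_le fun i _ =>
      (hGX i).ge.trans (latImg_mono (Finset.le_sup (f := X) (Finset.mem_univ i)) 1))
    simp only [M, Finset.sup_univ_eq_iSup] at hm ⊢
    induction hm using Submodule.iSup_induction' with
    | mem i y hy =>
      exact le_iSup X i ((hGX i).le ((mem_latImg (good_pow hτ S)).2 ⟨y, hy, rfl⟩))
    | zero => rw [Function.iterate_one, map_zero]; exact zero_mem _
    | add a b _ _ ha hb =>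
      rw [Function.iterate_one] at ha hb ⊢
      rw [map_add]; exact add_mem ha hb
  have hmat : mat c G = Matrix.diagonal coef * mat c (Isoc.iter F S) :=
    mat_diag_comp c coef (Isoc.iter F S)
  have hd' := detCoeff_iter c hτ (detCoeff_basis_change b c hτ hd) S
  have hcoef : Isoc.IsOrdP (∏ j, coef j) (∑ j, -((n (e.symm j).1 : ℤ) * r (e.symm j).1)) := by
    induction (Finset.univ : Finset (Fin h)) using Finset.induction with
    | empty => simpa using isOrdP_one
    | insert a t ha ih =>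
      rw [Finset.prod_insert ha, Finset.sum_insert ha]
      exact isOrdP_mul (isOrdP_zpow _) ih
  have hdetG : Isoc.IsOrdP (Isoc.detCoeff c G)
      ((∑ j, -((n (e.symm j).1 : ℤ) * r (e.symm j).1)) + S * d) := by
    rw [detCoeff_eq, hmat, Matrix.det_mul, Matrix.det_diagonal]
    exact isOrdP_mul hcoef hd'
  have h0 := (det_aux c (good_pow hτ S) hdetG hM hGM.le).2.2 hGM
  have hsum : ∑ j, ((n (e.symm j).1 : ℤ) * r (e.symm j).1) =
      ∑ i : {μ : ℚ // Isoc.slopePart F μ ≠ ⊥},
        (Isoc.newtonMult F (i : ℚ) : ℤ) * ((n i : ℤ) * r i) := by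
    rw [Equiv.sum_comp e.symm (fun a => (n a.1 : ℤ) * r a.1), Fintype.sum_sigma]
    refine Finset.sum_congr rfl fun i _ => ?_
    simp [Isoc.newtonMult]
  rw [Finset.sum_neg_distrib, hsum] at h0
  have hrS : ∀ i : {μ : ℚ // Isoc.slopePart F μ ≠ ⊥},
      (((n i : ℤ) * r i : ℤ) : ℚ) = (S : ℚ) * (i : ℚ) := fun i => by
    rw [← hμ i, hn i]
    have : (s i : ℚ) ≠ 0 := by exact_mod_cast (hs i).ne'
    push_cast
    field_simp
  have h1 : ((∑ i : {μ : ℚ // Isoc.slopePart F μ ≠ ⊥},
      (Isoc.newtonMult F (i : ℚ) : ℤ) * ((n i : ℤ) * r i) : ℤ) : ℚ) = ((S : ℤ) * d : ℤ) := by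
    congr 1; linarith
  rw [Int.cast_sum] at h1
  simp only [Int.cast_mul, Int.cast_natCast] at h1 hrS
  simp only [hrS] at h1
  have hsupp : Function.support (fun μ : ℚ => μ * (Isoc.newtonMult F μ : ℚ)) ⊆
      ↑(Finset.univ.map (Function.Embedding.subtype fun μ : ℚ => Isoc.slopePart F μ ≠ ⊥)) := by
    intro μ hμ'
    simp only [Finset.coe_map, Finset.coe_univ, Set.image_univ, Set.mem_range]
    refine ⟨⟨μ, fun h => hμ' ?_⟩, rfl⟩
    simp [Isoc.newtonMult, h]
  rw [finsum_eq_sum_of_support_subset _ hsupp, Finset.sum_map]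
  simp only [Function.Embedding.coe_subtype]
  refine mul_left_cancel₀ (show (S : ℚ) ≠ 0 by exact_mod_cast hS.ne') ?_
  rw [← h1, Finset.mul_sum]
  exact Finset.sum_congr rfl fun i _ => by ring

end

end Groth.Agent.Lib.Isoc.Decomp
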