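import Groth.Agent.Lib.Isoc.Lattice
import Mathlib.LinearAlgebra.Matrix.Basis
import Mathlib.LinearAlgebra.Matrix.NonsingularInverse

/-!
# The order of the determinant of a semilinear map and lattices
-/

open scoped Isocrystal Pointwise Matrix

universe u v

namespace Groth.Agent.Lib.Isoc.Det

open Groth.Agent.Lib.Isoc.Order Groth.Agent.Lib.Isoc.Lattice

noncomputable section

variable {p : ℕ} [Fact p.Prime] {k : Type u} [Field k]
variable {N : Type v} [AddCommGroup N] [Module K(p, k) N]
variable {τ : K(p, k) →+* K(p, k)} {F : N →ₛₗ[τ] N} {h : ℕ}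
variable (b b' : Module.Basis (Fin h) K(p, k) N)

/-- The matrix of a semilinear map. -/
def mat (F : N →ₛₗ[τ] N) : Matrix (Fin h) (Fin h) K(p, k) :=
  Matrix.of fun i j => b.repr (F (b j)) i

theorem detCoeff_eq : Isoc.detCoeff b F = (mat b F).det := rfl

theorem repr_apply (F : N →ₛₗ[τ] N) (x : N) :
    ⇑(b.repr (F x)) = mat b F *ᵥ (τ ∘ ⇑(b.repr x)) := by
  conv_lhs => rw [← b.sum_repr x]
  ext i
  rw [map_sum, map_sum, Finsupp.finsetSum_apply]
  simp only [map_smulₛₗ, Finsupp.smul_apply, smul_eq_mul, Matrix.mulVec, dotProduct, mat,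
    Matrix.of_apply, Function.comp_apply, RingHom.id_apply]
  exact Finset.sum_congr rfl fun j _ => mul_comm _ _

theorem mat_iter_succ (s : ℕ) :
    mat b (Isoc.iter F (s + 1)) = mat b F * (mat b (Isoc.iter F s)).map τ := by
  ext i j
  have := congrFun (repr_apply b F ((⇑F)^[s] (b j))) i
  simp only [mat, Matrix.of_apply, Isoc.iter_apply, Function.iterate_succ_apply']
  rw [this]
  rfl

theorem mat_smul (c : K(p, k)) : mat b (c • F) = c • mat b F := by
  ext i j; simp [mat]

theorem mat_mul_toMatrix :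
    mat b F * (b.toMatrix b').map τ = b.toMatrix b' * mat b' F := by
  ext i j
  have h1 := congrFun (repr_apply b F (b' j)) i
  have h2 : b.repr (F (b' j)) i = ∑ l, b.repr (b' l) i * b'.repr (F (b' j)) l := by
    conv_lhs => rw [← b'.sum_repr (F (b' j))]
    rw [map_sum, Finsupp.finsetSum_apply]
    simp only [map_smul, Finsupp.smul_apply, smul_eq_mul]
    exact Finset.sum_congr rfl fun l _ => mul_comm _ _
  calc (mat b F * (b.toMatrix b').map τ) i j = b.repr (F (b' j)) i := h1.symm
    _ = _ := h2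

variable [CharP k p]

theorem detCoeff_iter (hτ : Good τ) {d : ℤ} (hd : Isoc.IsOrdP (Isoc.detCoeff b F) d) :
    ∀ s : ℕ, Isoc.IsOrdP (Isoc.detCoeff b (Isoc.iter F s)) (s * d)
  | 0 => by
    have : mat b (Isoc.iter F 0) = 1 := by
      ext i j; simp [mat, Matrix.one_apply, Finsupp.single_apply, eq_comm]
    simp only [detCoeff_eq, this, Matrix.det_one, Nat.cast_zero, zero_mul]
    exact isOrdP_one
  | s + 1 => by
    have := isOrdP_mul hd (hτ.isOrdP (detCoeff_iter hτ hd s))
    rw [detCoeff_eq, mat_iter_succ, Matrix.det_mul, ← RingHom.mapMatrix_apply, ← RingHom.map_det]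
    rw [detCoeff_eq, detCoeff_eq] at this
    convert this using 1
    push_cast
    ring

theorem detCoeff_tw (hτ : Good τ) {d : ℤ} (hd : Isoc.IsOrdP (Isoc.detCoeff b F) d) (e : ℤ) (n : ℕ) :
    Isoc.IsOrdP (Isoc.detCoeff b (tw F e n)) (e * h + n * d) := by
  rw [detCoeff_eq, mat_smul, Matrix.det_smul, Fintype.card_fin]
  have h1 := isOrdP_pow (isOrdP_zpow (p := p) (k := k) e) h
  convert isOrdP_mul h1 (detCoeff_iter b hτ hd n) using 1
  · rfl
  · ring

variable [PerfectRing k p]

theorem detCoeff_basis_change (hτ : Good τ) {d : ℤ} (hd : Isoc.IsOrdP (Isoc.detCoeff b F) d) :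
    Isoc.IsOrdP (Isoc.detCoeff b' F) d := by
  have h0 := congrArg Matrix.det (mat_mul_toMatrix (F := F) b b')
  rw [Matrix.det_mul, Matrix.det_mul, ← RingHom.mapMatrix_apply, ← RingHom.map_det] at h0
  have hP : (b.toMatrix b').det ≠ 0 := by
    intro h1
    have := congrArg Matrix.det (b.toMatrix_mul_toMatrix_flip b')
    rw [Matrix.det_mul, h1, zero_mul, Matrix.det_one] at this
    exact zero_ne_one this
  obtain ⟨r, hr⟩ := exists_isOrdP hP
  have h1 := isOrdP_mul (isOrdP_inv hr) (isOrdP_mul hd (hτ.isOrdP hr))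
  rw [detCoeff_eq, h0, inv_mul_cancel_left₀ hP, show -r + (d + r) = d by ring] at h1
  exact h1

theorem detCoeff_ne_zero (hτ : Good τ) (hF : Function.Surjective F) :
    Isoc.detCoeff b F ≠ 0 := by
  rw [detCoeff_eq]
  have hcol : ∀ x : N, ∃ v : Fin h → K(p, k), mat b F *ᵥ v = ⇑(b.repr x) := fun x => by
    obtain ⟨y, rfl⟩ := hF x
    exact ⟨_, (repr_apply b F y).symm⟩
  have : Function.Surjective (fun v => mat b F *ᵥ v) := fun w => by
    obtain ⟨v, hv⟩ := hcol (b.equivFun.symm w)
    refine ⟨v, ?_⟩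
    change mat b F *ᵥ v = w
    rw [hv]
    exact b.equivFun.apply_symm_apply w
  exact ((Matrix.isUnit_iff_isUnit_det _).1 (Matrix.mulVec_surjective_iff_isUnit.1 this)).ne_zero

theorem exists_isOrdP_detCoeff (hτ : Good τ) (hF : Function.Surjective F) :
    ∃ d : ℤ, Isoc.IsOrdP (Isoc.detCoeff b F) d :=
  exists_isOrdP (detCoeff_ne_zero b hτ hF)

/-! ### Lattices -/

variable [Module (WittVector p k) N] [IsScalarTower (WittVector p k) K(p, k) N]
variable {M : Submodule (WittVector p k) N}

omit b b' in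
theorem exists_basis_of_lattice (hM : M.IsLattice K(p, k)) (hh : Module.finrank K(p, k) N = h) :
    ∃ c : Module.Basis (Fin h) K(p, k) N,
      ∀ x, x ∈ M ↔ ∀ i, c.repr x i ∈ (algebraMap (WittVector p k) K(p, k)).range := by
  have := hM
  let b0 := Module.Free.chooseBasis (WittVector p k) M
  let c0 := b0.extendOfIsLattice K(p, k)
  have hcard : Fintype.card (Module.Free.ChooseBasisIndex (WittVector p k) M) = h := by
    rw [← hh, Module.finrank_eq_card_basis c0]
  let e := Fintype.equivFinOfCardEq hcard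
  refine ⟨c0.reindex e, fun x => ⟨fun hx i => ?_, fun hx => ?_⟩⟩
  · rw [Module.Basis.repr_reindex_apply]
    have : x = ∑ j, algebraMap (WittVector p k) K(p, k) (b0.repr ⟨x, hx⟩ j) • c0 j := by
      have h1 := congrArg (fun y : M => (y : N)) (b0.sum_repr ⟨x, hx⟩).symm
      simp only [Submodule.coe_sum, Submodule.coe_smul] at h1
      refine h1.trans (Finset.sum_congr rfl fun j _ => ?_)
      rw [w_smul, Module.Basis.extendOfIsLattice_apply]
    refine ⟨b0.repr ⟨x, hx⟩ (e.symm i), ?_⟩
    conv_rhs => rw [this]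
    rw [map_sum, Finsupp.finsetSum_apply]
    simp only [map_smul, Finsupp.smul_apply, Module.Basis.repr_self, Finsupp.single_apply,
      smul_eq_mul, mul_ite, mul_one, mul_zero, Finset.sum_ite_eq', Finset.mem_univ, if_true]
  · rw [← (c0.reindex e).sum_repr x]
    refine Submodule.sum_mem _ fun i _ => ?_
    obtain ⟨w, hw⟩ := hx i
    rw [← hw, ← w_smul, Module.Basis.reindex_apply, Module.Basis.extendOfIsLattice_apply]
    exact M.smul_mem w (b0 _).2

theorem det_aux (hτ : Good τ) {d : ℤ} (hd : Isoc.IsOrdP (Isoc.detCoeff b F) d)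
    (hM : M.IsLattice K(p, k)) (hsub : Isoc.latImg F 1 M ≤ M) :
    0 ≤ d ∧ (d = 0 ↔ Isoc.latImg F 1 M = M) := by
  obtain ⟨c, hc⟩ := exists_basis_of_lattice hM (Module.finrank_eq_card_basis b |>.trans (Fintype.card_fin h))
  have hd' := detCoeff_basis_change b c hτ hd
  have hcM : ∀ i, c i ∈ M := fun i => (hc _).2 fun j => by
    rw [Module.Basis.repr_self, Finsupp.single_apply]
    split_ifs
    · exact one_mem _
    · exact zero_mem _
  have hint : ∀ i j, mat c F i j ∈ (algebraMap (WittVector p k) K(p, k)).range := fun i j => by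
    have := latImg_le_iff.1 hsub (c j) (hcM j)
    rw [Function.iterate_one] at this
    exact (hc _).1 this i
  choose A hA using hint
  have hAmat : mat c F = (Matrix.of A).map (algebraMap (WittVector p k) K(p, k)) := by
    ext i j; exact (hA i j).symm
  have hdet : Isoc.detCoeff c F = algebraMap (WittVector p k) K(p, k) (Matrix.of A).det := by
    rw [detCoeff_eq, hAmat, RingHom.map_det, RingHom.mapMatrix_apply]
  rw [hdet] at hd'
  refine ⟨(mem_range_iff hd').1 ⟨_, rfl⟩, ?_, fun heq => ?_⟩
  · intro hd0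
    subst hd0
    obtain ⟨u, hu⟩ := hd'
    rw [zpow_zero, one_mul] at hu
    have hunit : IsUnit (Matrix.of A) :=
      (Matrix.isUnit_iff_isUnit_det _).2 (algebraMap_injective hu ▸ u.isUnit)
    obtain ⟨U, hU⟩ := hunit
    obtain ⟨e, he⟩ := hτ
    refine le_antisymm hsub fun y hy => ?_
    choose w hw using (hc y).1 hy
    let v := (↑U⁻¹ : Matrix (Fin h) (Fin h) (WittVector p k)) *ᵥ w
    refine (mem_latImg ⟨e, he⟩).2 ⟨∑ j, algebraMap (WittVector p k) K(p, k) (e.symm (v j)) • c j,
      Submodule.sum_mem _ fun j _ => ?_, ?_⟩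
    · rw [← w_smul]; exact M.smul_mem _ (hcM j)
    · rw [Function.iterate_one]
      refine c.repr.injective (Finsupp.ext fun i => ?_)
      rw [congrFun (repr_apply c F _) i, ← hw i, hAmat]
      have hv : (τ ∘ ⇑(c.repr (∑ j, algebraMap (WittVector p k) K(p, k) (e.symm (v j)) • c j))) =
          algebraMap (WittVector p k) K(p, k) ∘ v := by
        ext j
        simp only [Function.comp_apply]
        rw [← Module.Basis.equivFun_apply, ← Module.Basis.equivFun_symm_apply,
          LinearEquiv.apply_symm_apply, he, e.apply_symm_apply]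
      rw [hv, ← RingHom.map_mulVec]
      congr 2
      change _ = w i
      simp only [v]
      rw [← hU, Matrix.mulVec_mulVec, Units.mul_inv, Matrix.one_mulVec]
  · obtain ⟨e, he⟩ := hτ
    have hpre : ∀ j, ∃ w : Fin h → WittVector p k,
        Matrix.of A *ᵥ w = fun i => if i = j then 1 else 0 := by
      intro j
      have hj : c j ∈ Isoc.latImg F 1 M := by rw [heq]; exact hcM j
      obtain ⟨m, hm, hmj⟩ := (mem_latImg ⟨e, he⟩).1 hj
      rw [Function.iterate_one] at hmj
      choose w hw using (hc m).1 hm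
      refine ⟨fun i => e (w i), funext fun i => algebraMap_injective ?_⟩
      have h1 := congrFun (repr_apply c F m) i
      rw [hmj, Module.Basis.repr_self, hAmat] at h1
      have hv : (τ ∘ ⇑(c.repr m)) = algebraMap (WittVector p k) K(p, k) ∘ fun i => e (w i) := by
        ext l; simp only [Function.comp_apply, ← hw, he]
      rw [hv, ← RingHom.map_mulVec] at h1
      rw [← h1, Finsupp.single_apply]
      simp only [apply_ite (algebraMap (WittVector p k) K(p, k)), map_one, map_zero, eq_comm]
    choose V hV using hpre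
    have hAV : Matrix.of A * Matrix.of (fun i j => V j i) = 1 := by
      ext i j
      rw [Matrix.one_apply, ← congrFun (hV j) i]
      rfl
    obtain ⟨u, hu⟩ := (Matrix.isUnit_iff_isUnit_det _).1 (IsUnit.of_mul_eq_one _ hAV)
    refine isOrdP_unique hd' ?_
    rw [← hu]
    exact isOrdP_unit u

/-- If `F^s M ⊆ p^r M` then `r h ≤ s d`, with equality exactly when `F^s M = p^r M`. -/
theorem mul_le_of_latImg_le (hτ : Good τ) {d : ℤ} (hd : Isoc.IsOrdP (Isoc.detCoeff b F) d)
    (hM : M.IsLattice K(p, k)) {s : ℕ} {r : ℤ} (hle : Isoc.latImg F s M ≤ Isoc.pPow r M) :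
    r * h ≤ s * d ∧ (r * h = s * d ↔ Isoc.latImg F s M = Isoc.pPow r M) := by
  have himg : Isoc.latImg (tw F (-r) s) 1 M = Isoc.pPow (-r) (Isoc.latImg F s M) := by
    rw [latImg_tw hτ, mul_one, Nat.cast_one, one_mul]
  have hsub : Isoc.latImg (tw F (-r) s) 1 M ≤ M := by
    rw [himg, pPow_le_iff, neg_neg]; exact hle
  obtain ⟨h1, h2⟩ := det_aux b (good_pow hτ s) (detCoeff_tw b hτ hd (-r) s) hM hsub
  refine ⟨by linarith, ⟨fun heq => ?_, fun heq => ?_⟩⟩
  · have := h2.1 (by linarith)
    rw [himg] at this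
    conv_rhs => rw [← this, pPow_pPow, add_neg_cancel, pPow_zero]
  · have := h2.2 (by rw [himg, heq, pPow_pPow, neg_add_cancel, pPow_zero])
    linarith

end

end Groth.Agent.Lib.Isoc.Det
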