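import Groth.Agent.Lib.Isoc.Lattice
import Mathlib.RingTheory.WittVector.Complete
import Mathlib.LinearAlgebra.FiniteDimensional.Lemmas
import Mathlib.Algebra.Order.Floor.Ring
import Mathlib.Tactic.LinearCombination

/-!
# A stable lattice exists when the orders of the iterates grow at worst sublinearly
-/

open scoped Isocrystal Pointwise

universe u v

namespace Groth.Agent.Lib.Isoc.Effective

open Groth.Agent.Lib.Isoc.Order Groth.Agent.Lib.Isoc.Lattice

noncomputable section

variable {p : ℕ} [Fact p.Prime] {k : Type u} [Field k] [CharP k p] [PerfectRing k p]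

theorem exists_series_scalar (w : ℕ → WittVector p k) :
    ∃ z : ℕ → WittVector p k, ∀ c, z c = w c + (p : WittVector p k) * z (c + 1) := by
  have key : ∀ c, ∃ L : WittVector p k, ∀ n,
      (p : WittVector p k) ^ n ∣ (∑ i ∈ Finset.range n, (p : WittVector p k) ^ i * w (c + i)) - L := by
    intro c
    obtain ⟨L, hL⟩ := IsPrecomplete.prec' (I := Ideal.span {(p : WittVector p k)})
      (fun n => ∑ i ∈ Finset.range n, (p : WittVector p k) ^ i * w (c + i)) (fun {m n} hmn => by
        rw [SModEq.sub_mem, smul_eq_mul, Ideal.mul_top, Ideal.span_singleton_pow,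
          Ideal.mem_span_singleton, ← Finset.sum_range_add_sum_Ico _ hmn, sub_add_cancel_left,
          dvd_neg]
        refine Finset.dvd_sum fun i hi => Dvd.dvd.mul_right ?_ _
        exact pow_dvd_pow _ (Finset.mem_Ico.1 hi).1)
    refine ⟨L, fun n => ?_⟩
    have := hL n
    rwa [SModEq.sub_mem, smul_eq_mul, Ideal.mul_top, Ideal.span_singleton_pow,
      Ideal.mem_span_singleton] at this
  choose z hz using key
  refine ⟨z, fun c => ?_⟩
  rw [← sub_eq_zero]
  refine IsHausdorff.haus' (I := Ideal.span {(p : WittVector p k)}) _ fun n => ?_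
  rw [SModEq.sub_mem, sub_zero, smul_eq_mul, Ideal.mul_top, Ideal.span_singleton_pow,
    Ideal.mem_span_singleton]
  have h1 : (p : WittVector p k) ^ n ∣
      (∑ i ∈ Finset.range (n + 1), (p : WittVector p k) ^ i * w (c + i)) - z c :=
    (pow_dvd_pow _ n.le_succ).trans (hz c (n + 1))
  have h2 := (hz (c + 1) n).mul_left (p : WittVector p k)
  have h3 : z c - (w c + (p : WittVector p k) * z (c + 1)) =
      ((p : WittVector p k) *
          ((∑ i ∈ Finset.range n, (p : WittVector p k) ^ i * w (c + 1 + i)) - z (c + 1))) -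
        ((∑ i ∈ Finset.range (n + 1), (p : WittVector p k) ^ i * w (c + i)) - z c) := by
    rw [Finset.sum_range_succ', mul_sub, Finset.mul_sum, pow_zero, one_mul, add_zero]
    have : ∀ i, (p : WittVector p k) ^ (i + 1) * w (c + (i + 1)) =
        (p : WittVector p k) * ((p : WittVector p k) ^ i * w (c + 1 + i)) := fun i => by
      rw [pow_succ', mul_assoc, show c + (i + 1) = c + 1 + i by ring]
    simp only [this]
    ring
  rw [h3]
  exact dvd_sub h2 h1

variable {N : Type v} [AddCommGroup N] [Module (WittVector p k) N] [Module K(p, k) N]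
  [IsScalarTower (WittVector p k) K(p, k) N]

theorem exists_series {Y : Submodule (WittVector p k) N} (hY : Y.FG) (y : ℕ → N)
    (hy : ∀ c, y c ∈ Y) :
    ∃ z : ℕ → N, (∀ c, z c ∈ Y) ∧ ∀ c, z c = y c + (p : WittVector p k) • z (c + 1) := by
  classical
  obtain ⟨S, rfl⟩ := hY
  have hrep : ∀ c, ∃ f : N → WittVector p k, ∑ s ∈ S, f s • s = y c := fun c => by
    obtain ⟨f, -, hf⟩ := Submodule.mem_span_finset.1 (hy c)
    exact ⟨f, hf⟩
  choose f hf using hrep
  choose z hz using fun s => exists_series_scalar (fun c => f c s)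
  refine ⟨fun c => ∑ s ∈ S, z s c • s, fun c => Submodule.sum_mem _ fun s hs =>
    Submodule.smul_mem _ _ (Submodule.subset_span hs), fun c => ?_⟩
  rw [← hf c, Finset.smul_sum, ← Finset.sum_add_distrib]
  refine Finset.sum_congr rfl fun s _ => ?_
  rw [smul_smul, ← add_smul]
  exact congrArg (· • s) (hz s c)

/-- The vectors whose whole line lies in `U`. -/
def lines (U : Submodule (WittVector p k) N) : Submodule K(p, k) N where
  carrier := {x | ∀ c : K(p, k), c • x ∈ U}
  zero_mem' c := by rw [smul_zero]; exact zero_mem _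
  add_mem' hx hy c := by rw [smul_add]; exact add_mem (hx c) (hy c)
  smul_mem' a x hx c := by rw [smul_smul]; exact hx _

omit [CharP k p] [PerfectRing k p] [IsScalarTower (WittVector p k) K(p, k) N] in
theorem lines_subset {U : Submodule (WittVector p k) N} {x : N} (hx : x ∈ lines U) : x ∈ U := by
  simpa using hx 1

omit [CharP k p] [PerfectRing k p] [IsScalarTower (WittVector p k) K(p, k) N] in
theorem lines_mono {U U' : Submodule (WittVector p k) N} (h : U ≤ U') : lines U ≤ lines U' :=
  fun _ hx c => h (hx c)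

theorem mem_lines {U : Submodule (WittVector p k) N} {v : N}
    (h : ∀ c : ℕ, (p : K(p, k)) ^ (-(c : ℤ)) • v ∈ U) : v ∈ lines U := by
  intro a
  by_cases ha : a = 0
  · rw [ha, zero_smul]; exact zero_mem _
  obtain ⟨r, u, rfl⟩ := exists_isOrdP ha
  rw [mul_comm, mul_smul, ← w_smul]
  refine U.smul_mem _ ?_
  rcases le_or_gt 0 r with hr | hr
  · obtain ⟨n, rfl⟩ := Int.eq_ofNat_of_zero_le hr
    rw [zpow_natCast, ← map_natCast (algebraMap (WittVector p k) K(p, k)) p, ← map_pow, ← w_smul]
    exact U.smul_mem _ (by simpa using h 0)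
  · obtain ⟨n, rfl⟩ : ∃ n : ℕ, r = -(n : ℤ) := ⟨(-r).toNat, by omega⟩
    exact h n

theorem exists_fg_sup_lines [Module.Finite K(p, k) N] : ∀ (n : ℕ) (P : Submodule K(p, k) N)
    (_ : Module.finrank K(p, k) P ≤ n) (U : Submodule (WittVector p k) N)
    (_ : ∀ x ∈ U, x ∈ P), ∃ Y : Submodule (WittVector p k) N,
      Y.FG ∧ Y ≤ U ∧ U ≤ Y ⊔ (lines U).restrictScalars (WittVector p k) := by
  intro n
  induction n with
  | zero =>
    intro P hP U hU
    refine ⟨⊥, Submodule.fg_bot, bot_le, fun x hx => ?_⟩
    have : P = ⊥ := Submodule.finrank_eq_zero.1 (Nat.le_zero.1 hP)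
    have hx0 : x = 0 := by simpa [this] using hU x hx
    rw [hx0]
    exact zero_mem _
  | succ n ih =>
    intro P hP U hU
    by_cases hP0 : P = ⊥
    · exact ih P (by rw [hP0, finrank_bot]; exact Nat.zero_le _) U hU
    obtain ⟨x, hxP, hx0⟩ := Submodule.exists_mem_ne_zero_of_ne_bot hP0
    obtain ⟨f, hf⟩ := Module.Projective.exists_dual_ne_zero K(p, k) hx0
    have hlt : Module.finrank K(p, k) ↥(P ⊓ LinearMap.ker f) < Module.finrank K(p, k) P := by
      refine Submodule.finrank_lt_finrank_of_lt (lt_of_le_not_ge inf_le_left fun hle => hf ?_)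
      exact LinearMap.mem_ker.1 (hle hxP).2
    let UK : Submodule (WittVector p k) N := U ⊓ (LinearMap.ker f).restrictScalars (WittVector p k)
    obtain ⟨YK, hYKfg, hYKU, hUK⟩ := ih (P ⊓ LinearMap.ker f) (by omega) UK
      (fun y hy => ⟨hU y hy.1, hy.2⟩)
    have hUKle : UK ≤ YK ⊔ (lines U).restrictScalars (WittVector p k) :=
      hUK.trans (sup_le_sup_left (fun y hy => lines_mono (inf_le_left : UK ≤ U) hy) _)
    by_cases hall : ∀ c : ℕ, ∃ u ∈ U, f u = (p : K(p, k)) ^ (-(c : ℤ))
    · choose u huU hfu using hall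
      have hw : ∀ c, (p : WittVector p k) • u (c + 1) - u c ∈ UK := fun c => by
        refine ⟨sub_mem (U.smul_mem _ (huU _)) (huU c), ?_⟩
        change f _ = 0
        rw [map_sub, w_smul, map_smul, hfu, hfu, map_natCast, smul_eq_mul]
        nth_rewrite 1 [← zpow_one (p : K(p, k))]
        rw [← zpow_add₀ p_ne_zero,
          show (1 : ℤ) + -((c + 1 : ℕ) : ℤ) = -(c : ℤ) by push_cast; ring, sub_self]
      choose y hy δ hδ hyδ using fun c => Submodule.mem_sup.1 (hUKle (hw c))
      obtain ⟨z, hz, hzrec⟩ := exists_series hYKfg y hy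
      let u' : ℕ → N := fun c => u c + z c
      have hu' : ∀ c, u' c ∈ U := fun c => add_mem (huU c) (hYKU.trans inf_le_left (hz c))
      have hrec : ∀ c, (p : WittVector p k) • u' (c + 1) - u' c = δ c := fun c => by
        simp only [u', smul_add]
        rw [hzrec c, eq_sub_of_add_eq' (hyδ c)]
        abel
      have hline : ∀ c : ℕ, (p : K(p, k)) ^ (-(c : ℤ)) • u' 0 - u' c ∈ lines U := by
        intro c
        induction c with
        | zero => simp
        | succ c ih' =>
          have h1 : (p : K(p, k)) ^ (-((c + 1 : ℕ) : ℤ)) • u' 0 - u' (c + 1) =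
              (p : K(p, k)) ^ (-1 : ℤ) •
                (((p : K(p, k)) ^ (-(c : ℤ)) • u' 0 - u' c) - δ c) := by
            have hp0 : (p : K(p, k)) ≠ 0 := p_ne_zero
            rw [← hrec c, w_smul, map_natCast,
              show -((c + 1 : ℕ) : ℤ) = -1 + -(c : ℤ) by push_cast; ring, zpow_add₀ hp0, zpow_neg_one]
            simp only [smul_sub, smul_smul, inv_mul_cancel₀ hp0, one_smul]
            abel
          rw [h1]
          exact Submodule.smul_mem _ _ (sub_mem ih' (hδ c))
      have hv : u' 0 ∈ lines U := mem_lines fun c => by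
        have := add_mem (lines_subset (hline c)) (hu' c)
        rwa [sub_add_cancel] at this
      have hfv : f (u' 0) = 1 := by
        simp only [u', map_add, hfu, LinearMap.mem_ker.1 (hYKU (hz 0)).2]
        simp
      refine ⟨YK, hYKfg, hYKU.trans inf_le_left, fun a ha => ?_⟩
      have hmem : a - f a • u' 0 ∈ UK := by
        refine ⟨sub_mem ha (hv _), ?_⟩
        change f _ = 0
        rw [map_sub, map_smul, hfv, smul_eq_mul, mul_one, sub_self]
      have := add_mem (hUKle hmem)
        (Submodule.mem_sup_right ((lines U).smul_mem (f a) hv) :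
          f a • u' 0 ∈ YK ⊔ (lines U).restrictScalars (WittVector p k))
      rwa [sub_add_cancel] at this
    · push Not at hall
      obtain ⟨c0, hc0⟩ := hall
      have hbound : ∀ a ∈ U, ∀ r, Isoc.IsOrdP (f a) r → -(c0 : ℤ) < r := by
        intro a ha r hr
        by_contra! hle
        obtain ⟨w, hw⟩ := hr
        obtain ⟨m, hm⟩ : ∃ m : ℕ, r + m = -(c0 : ℤ) := ⟨(-(c0 : ℤ) - r).toNat, by omega⟩
        refine hc0 (((↑w⁻¹ : WittVector p k) * (p : WittVector p k) ^ m) • a) (U.smul_mem _ ha) ?_
        rw [w_smul, map_smul, hw, smul_eq_mul, map_mul, map_pow, map_natCast, ← hm,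
          zpow_add₀ p_ne_zero, zpow_natCast, map_units_inv]
        have : algebraMap (WittVector p k) K(p, k) w ≠ 0 :=
          (map_ne_zero_iff _ Order.algebraMap_injective).2 w.ne_zero
        field_simp
      by_cases hz : ∀ a ∈ U, f a = 0
      · refine ⟨YK, hYKfg, hYKU.trans inf_le_left, fun a ha => hUKle ⟨ha, hz a ha⟩⟩
      push Not at hz
      obtain ⟨a1, ha1, ha1f⟩ := hz
      obtain ⟨r0, ⟨a0, ha0, hr0⟩, hmin⟩ := Int.exists_least_of_bdd
        (P := fun r => ∃ a ∈ U, Isoc.IsOrdP (f a) r)
        ⟨-(c0 : ℤ), fun r ⟨a, ha, hr⟩ => (hbound a ha r hr).le⟩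
        ((exists_isOrdP ha1f).imp fun r hr => ⟨a1, ha1, hr⟩)
      refine ⟨YK ⊔ Submodule.span (WittVector p k) {a0}, hYKfg.sup (Submodule.fg_span_singleton a0),
        sup_le (hYKU.trans inf_le_left) ((Submodule.span_singleton_le_iff_mem _ _).2 ha0),
        fun a ha => ?_⟩
      obtain ⟨w, hw⟩ : ∃ w : WittVector p k,
          algebraMap (WittVector p k) K(p, k) w * f a0 = f a := by
        by_cases hfa : f a = 0
        · exact ⟨0, by rw [map_zero, zero_mul, hfa]⟩
        obtain ⟨r, hr⟩ := exists_isOrdP hfa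
        have hle := hmin r ⟨a, ha, hr⟩
        obtain ⟨w, hw⟩ := (mem_range_iff (isOrdP_mul hr (isOrdP_inv hr0))).2 (by omega)
        exact ⟨w, by rw [hw, mul_assoc, inv_mul_cancel₀ (isOrdP_ne_zero hr0), mul_one]⟩
      have hmem : a - w • a0 ∈ UK := by
        refine ⟨sub_mem ha (U.smul_mem _ ha0), ?_⟩
        change f _ = 0
        rw [map_sub, w_smul, map_smul, smul_eq_mul, hw, sub_self]
      have h1 : a - w • a0 ∈ (YK ⊔ Submodule.span (WittVector p k) {a0}) ⊔
          (lines U).restrictScalars (WittVector p k) :=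
        (sup_le_sup_right (le_sup_left : YK ≤ YK ⊔ Submodule.span (WittVector p k) {a0}) ((lines U).restrictScalars (WittVector p k))) (hUKle hmem)
      have h2 : w • a0 ∈ (YK ⊔ Submodule.span (WittVector p k) {a0}) ⊔
          (lines U).restrictScalars (WittVector p k) :=
        Submodule.mem_sup_left (Submodule.mem_sup_right
          (Submodule.smul_mem _ _ (Submodule.mem_span_singleton_self _)))
      simpa using add_mem h1 h2

variable {τ : K(p, k) →+* K(p, k)} {F : N →ₛₗ[τ] N} {M : Submodule (WittVector p k) N}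

omit [PerfectRing k p] in
theorem inf_pPow (P : Submodule K(p, k) N) {r : ℤ} {x : N}
    (hx : x ∈ Isoc.pPow r M) (hxP : x ∈ P) :
    x ∈ Isoc.pPow r (M ⊓ P.restrictScalars (WittVector p k)) := by
  rw [mem_pPow_iff] at hx ⊢
  exact ⟨hx, P.smul_mem _ hxP⟩

theorem exists_stable_fg (hτ : Good τ) (hM : M.IsLattice K(p, k)) [Module.Finite K(p, k) N]
    (hgrow : ∀ ε : ℝ, 0 < ε → ∃ C : ℝ, ∀ i : ℕ, ∃ r : ℤ,
      -ε * i - C ≤ r ∧ Isoc.latImg F i M ≤ Isoc.pPow r M) :
    ∀ (d : ℕ) (P : Submodule K(p, k) N), Module.finrank K(p, k) P ≤ d → (∀ x ∈ P, F x ∈ P) →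
      ∃ X : Submodule (WittVector p k) N, X.FG ∧ X ≤ P.restrictScalars (WittVector p k) ∧
        P ≤ Submodule.span K(p, k) (X : Set N) ∧ Isoc.latImg F 1 X ≤ X := by
  intro d
  induction d with
  | zero =>
    intro P hP _
    have : P = ⊥ := Submodule.finrank_eq_zero.1 (Nat.le_zero.1 hP)
    subst this
    refine ⟨⊥, Submodule.fg_bot, bot_le, bot_le, ?_⟩
    rw [latImg_le_iff]
    intro m hm
    rw [(Submodule.mem_bot _).1 hm, Function.iterate_one, map_zero]
    exact zero_mem _
  | succ d ih =>
    intro P hP hPF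
    by_cases hP0 : P = ⊥
    · exact ih P (by rw [hP0, finrank_bot]; exact Nat.zero_le _) hPF
    let MP : Submodule (WittVector p k) N := M ⊓ P.restrictScalars (WittVector p k)
    have hMPfg : MP.FG := by
      have : IsNoetherian (WittVector p k) M := isNoetherian_of_fg_of_noetherian M hM.fg
      have : IsNoetherian (WittVector p k) MP := isNoetherian_of_le (inf_le_left : MP ≤ M)
      exact Module.Finite.iff_fg.1 inferInstance
    have hspan : P ≤ Submodule.span K(p, k) (MP : Set N) := fun x hx => by
      obtain ⟨c, hc⟩ := exists_mem_pPow hM x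
      have h1 := inf_pPow P hc hx
      rw [mem_pPow_iff] at h1
      have := Submodule.smul_mem (Submodule.span K(p, k) (MP : Set N)) ((p : K(p, k)) ^ c)
        (Submodule.subset_span h1)
      rwa [smul_smul, ← zpow_add₀ p_ne_zero, add_neg_cancel, zpow_zero, one_smul] at this
    let U : Submodule (WittVector p k) N := ⨆ i, Isoc.latImg F i MP
    have hFU : ∀ x ∈ U, F x ∈ U := by
      intro x hx
      induction hx using Submodule.iSup_induction' with
      | mem i y hy =>
        refine le_iSup (fun i => Isoc.latImg F i MP) (1 + i) ?_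
        rw [← latImg_latImg hτ 1 i]
        exact (mem_latImg hτ).2 ⟨y, hy, Function.iterate_one _ ▸ rfl⟩
      | zero => rw [map_zero]; exact zero_mem _
      | add a b _ _ ha hb => rw [map_add]; exact add_mem ha hb
    have hUP : ∀ x ∈ U, x ∈ P := by
      intro x hx
      have : U ≤ P.restrictScalars (WittVector p k) := iSup_le fun i => latImg_le_iff.2 fun m hm => by
        induction i with
        | zero => exact hm.2
        | succ i ih' => rw [Function.iterate_succ_apply']; exact hPF _ ih'
      exact this hx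
    obtain ⟨Y, hYfg, hYU, hUY⟩ := exists_fg_sup_lines _ P le_rfl U hUP
    have hDP : lines U ≤ P := fun x hx => hUP x (lines_subset hx)
    have hDF : ∀ x ∈ lines U, F x ∈ lines U := fun x hx c => by
      obtain ⟨c', rfl⟩ := hτ.bijective.2 c
      rw [← map_smulₛₗ]
      exact hFU _ (hx c')
    have hne : lines U ≠ P := by
      intro hDeq
      let T : ℕ → Submodule (WittVector p k) N := fun n =>
        (Finset.range (n + 1)).sup fun i => Isoc.latImg F i MP
      have hTmono : Monotone T := fun a b hab =>
        Finset.sup_mono (Finset.range_subset_range.2 (by omega))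
      have hle : Isoc.pPow (-1) MP ≤ ⨆ n, T n := by
        intro x hx
        rw [mem_pPow_iff] at hx
        have hxl : x ∈ lines U := by
          rw [hDeq]
          have := P.smul_mem ((p : K(p, k)) ^ (-1 : ℤ)) hx.2
          rwa [smul_smul, ← zpow_add₀ p_ne_zero, show (-1 : ℤ) + -(-1) = 0 by ring, zpow_zero,
            one_smul] at this
        have hUT : U ≤ ⨆ n, T n := iSup_le fun i =>
          le_trans (Finset.le_sup (f := fun i => Isoc.latImg F i MP)
            (Finset.mem_range.2 (Nat.lt_succ_self i))) (le_iSup T i)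
        exact hUT (lines_subset hxl)
      obtain ⟨n, hn⟩ : ∃ n, Isoc.pPow (-1) MP ≤ T n := by
        obtain ⟨S, hS⟩ : (Isoc.pPow (-1) MP).FG := by rw [pPow_eq_map]; exact hMPfg.map _
        have hmem : ∀ s ∈ S, ∃ n, s ∈ T n := fun s hs =>
          (Submodule.mem_iSup_of_directed T hTmono.directed_le).1
            (hle (hS ▸ Submodule.subset_span hs))
        choose! g hg using hmem
        refine ⟨S.sup g, ?_⟩
        rw [← hS, Submodule.span_le]
        exact fun s hs => hTmono (Finset.le_sup hs) (hg s hs)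
      have hiter : ∀ j : ℕ, Isoc.pPow (-(j : ℤ)) MP ≤ T (j * n) := by
        intro j
        induction j with
        | zero =>
          simp only [Nat.cast_zero, neg_zero, pPow_zero, zero_mul]
          exact (latImg_zero (F := F) (M := MP)).ge.trans
            (Finset.le_sup (f := fun i => Isoc.latImg F i MP) (Finset.mem_range.2 (by omega)))
        | succ j ihj =>
          rw [show -((j + 1 : ℕ) : ℤ) = -(j : ℤ) + -1 by push_cast; ring, ← pPow_pPow]
          refine (pPow_mono hn _).trans ?_
          rw [pPow_eq_map, Submodule.map_le_iff_le_comap, Finset.sup_le_iff]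
          intro i hi
          rw [← Submodule.map_le_iff_le_comap, ← pPow_eq_map, ← latImg_pPow hτ]
          refine (latImg_mono ihj i).trans ?_
          rw [latImg_le_iff]
          intro m hm
          have key : Isoc.latImg F i (T (j * n)) ≤ T ((j + 1) * n) := by
            rw [latImg_le_iff]
            have hsub : ∀ l ≤ j * n, ∀ m ∈ Isoc.latImg F l MP,
                (⇑F)^[i] m ∈ T ((j + 1) * n) := by
              intro l hl m hm
              have h1 : (⇑F)^[i] m ∈ Isoc.latImg F (i + l) MP := by
                rw [← latImg_latImg hτ i l]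
                exact (mem_latImg hτ).2 ⟨m, hm, rfl⟩
              refine Finset.le_sup (f := fun i => Isoc.latImg F i MP) (Finset.mem_range.2 ?_) h1
              have := Finset.mem_range.1 hi
              rw [add_mul, one_mul]
              omega
            intro m hm
            simp only [T, Finset.sup_eq_iSup] at hm
            induction hm using Submodule.iSup_induction' with
            | mem l y hy =>
              by_cases hl : l ∈ Finset.range (j * n + 1)
              · rw [iSup_pos hl] at hy
                exact hsub l (by have := Finset.mem_range.1 hl; omega) y hy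
              · rw [iSup_neg hl, Submodule.mem_bot] at hy
                rw [hy]
                change Isoc.iter F i 0 ∈ _
                rw [map_zero]; exact zero_mem _
            | zero =>
              change Isoc.iter F i 0 ∈ _
              rw [map_zero]; exact zero_mem _
            | add a b _ _ ha hb =>
              change Isoc.iter F i (a + b) ∈ _
              rw [map_add]; exact add_mem ha hb
          exact latImg_le_iff.1 key m hm
      obtain ⟨C, hC⟩ := hgrow (1 / (2 * (n + 1 : ℕ))) (by positivity)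
      obtain ⟨m, hm, hm0⟩ : ∃ m ∈ MP, m ≠ 0 := by
        by_contra! hall
        refine hP0 (le_bot_iff.1 (hspan.trans (Submodule.span_le.2 fun x hx => ?_)))
        simp [hall x hx]
      refine hm0 (eq_zero_of_forall_mem_pPow hM fun t => ?_)
      obtain ⟨j, hj⟩ := exists_nat_ge (2 * ((t : ℝ) + C + 1))
      have hbound : T (j * n) ≤ Isoc.pPow ((t : ℤ) - j) M := Finset.sup_le fun i hi => by
        obtain ⟨r, hr, hle⟩ := hC i
        refine ((latImg_mono inf_le_left i).trans hle).trans (pPow_anti ?_)
        have hi' : (i : ℝ) ≤ (j : ℝ) * n := by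
          have := Finset.mem_range.1 hi
          exact_mod_cast (show i ≤ j * n by omega)
        have hε : (1 / (2 * ((n + 1 : ℕ) : ℝ))) * i ≤ j / 2 := by
          rw [div_mul_eq_mul_div, one_mul, div_le_div_iff₀ (by positivity) two_pos]
          push_cast
          nlinarith
        have : ((t : ℤ) - j : ℤ) ≤ (r : ℝ) := by
          push_cast
          linarith
        exact_mod_cast this
      have h1 := (hiter j).trans hbound
      rw [pPow_le_iff, pPow_pPow, show - -(j : ℤ) + ((t : ℤ) - j) = t by ring] at h1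
      exact h1 hm
    obtain ⟨XD, hXDfg, hXDle, hXDspan, hXDF⟩ := ih (lines U)
      (by have := Submodule.finrank_lt_finrank_of_lt (lt_of_le_of_ne hDP hne); omega) hDF
    let Y' : Submodule (WittVector p k) N := MP ⊔ Y
    have hY'fg : Y'.FG := hMPfg.sup hYfg
    have hY'U : Y' ≤ U :=
      sup_le ((latImg_zero (F := F) (M := MP)).ge.trans (le_iSup (fun i => Isoc.latImg F i MP) 0)) hYU
    obtain ⟨S, hS⟩ := hY'fg
    have hdec : ∀ s ∈ S, ∃ δ ∈ lines U, F s - δ ∈ Y' := fun s hs => by
      have h1 := hUY (hFU s (hY'U (hS ▸ Submodule.subset_span hs)))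
      obtain ⟨y, hy, δ, hδ, hsum⟩ := Submodule.mem_sup.1 h1
      exact ⟨δ, hδ, by rw [← hsum, add_sub_cancel_right]; exact Submodule.mem_sup_right hy⟩
    choose! δ hδ hFδ using hdec
    classical
    have hsat : ∀ s ∈ S, ∃ c : ℕ, δ s ∈ Isoc.pPow (-(c : ℤ)) XD := fun s hs => by
      have h1 := hXDspan (hδ s hs)
      generalize δ s = v at h1
      induction h1 using Submodule.span_induction with
      | mem y hy => exact ⟨0, by simpa using hy⟩
      | zero => exact ⟨0, zero_mem _⟩
      | add a b _ _ ha hb =>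
        obtain ⟨c, hc⟩ := ha
        obtain ⟨e, he⟩ := hb
        exact ⟨max c e, add_mem (pPow_anti (by omega) hc) (pPow_anti (by omega) he)⟩
      | smul a y _ hy =>
        obtain ⟨c, hc⟩ := hy
        by_cases ha : a = 0
        · exact ⟨c, by rw [ha, zero_smul]; exact zero_mem _⟩
        obtain ⟨r, w, rfl⟩ := exists_isOrdP ha
        refine ⟨c + (-r).toNat, ?_⟩
        rw [mul_smul, zpow_smul_mem_pPow_iff, ← w_smul]
        exact Submodule.smul_mem _ _ (pPow_anti (by omega) hc)
    choose! g hg using hsat
    let X : Submodule (WittVector p k) N := Y' ⊔ Isoc.pPow (-((S.sup g : ℕ) : ℤ)) XD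
    refine ⟨X, (hMPfg.sup hYfg).sup (by rw [pPow_eq_map]; exact hXDfg.map _), sup_le ?_ ?_, ?_, ?_⟩
    · exact fun x hx => hUP x (hY'U hx)
    · intro x hx
      rw [mem_pPow_iff] at hx
      have := P.smul_mem ((p : K(p, k)) ^ (-((S.sup g : ℕ) : ℤ))) (hDP (hXDle hx))
      rwa [smul_smul, ← zpow_add₀ p_ne_zero, add_neg_cancel, zpow_zero, one_smul] at this
    · exact hspan.trans (Submodule.span_mono fun x hx =>
        Submodule.mem_sup_left (Submodule.mem_sup_left hx))
    · have hXD' : Isoc.latImg F 1 (Isoc.pPow (-((S.sup g : ℕ) : ℤ)) XD) ≤ X := by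
        rw [latImg_pPow hτ]
        exact (pPow_mono hXDF _).trans le_sup_right
      rw [latImg_le_iff]
      intro m hm
      rw [Function.iterate_one]
      obtain ⟨y, hy, q, hq, rfl⟩ := Submodule.mem_sup.1 hm
      rw [map_add]
      refine add_mem ?_ (hXD' ((mem_latImg hτ).2 ⟨q, hq, Function.iterate_one _ ▸ rfl⟩))
      obtain ⟨e, he⟩ := hτ
      rw [← hS] at hy
      clear hm
      induction hy using Submodule.span_induction with
      | mem s hs =>
        rw [← sub_add_cancel (F s) (δ s)]
        exact add_mem (Submodule.mem_sup_left (hFδ s hs)) (Submodule.mem_sup_right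
          (pPow_anti (by have := Finset.le_sup (f := g) hs; omega) (hg s hs)))
      | zero => rw [map_zero]; exact zero_mem _
      | add a b _ _ ha hb => rw [map_add]; exact add_mem ha hb
      | smul w a _ ha => rw [map_w_smul he]; exact Submodule.smul_mem _ _ ha

/-- Sublinear growth gives an invariant lattice. -/
theorem exists_stable_lattice (hτ : Good τ) (hM : M.IsLattice K(p, k)) [Module.Finite K(p, k) N]
    (hgrow : ∀ ε : ℝ, 0 < ε → ∃ C : ℝ, ∀ i : ℕ, ∃ r : ℤ,
      -ε * i - C ≤ r ∧ Isoc.latImg F i M ≤ Isoc.pPow r M) :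
    ∃ X : Submodule (WittVector p k) N, X.IsLattice K(p, k) ∧ Isoc.latImg F 1 X ≤ X := by
  obtain ⟨X, hfg, -, hspan, hF⟩ :=
    exists_stable_fg hτ hM hgrow _ ⊤ le_rfl (fun _ _ => Submodule.mem_top)
  exact ⟨X, ⟨hfg, top_le_iff.1 hspan⟩, hF⟩

end

end Groth.Agent.Lib.Isoc.Effective
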