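import Groth.Agent.Lib.Isoc.Decomp
import Mathlib.LinearAlgebra.Charpoly.ToMatrix
import Mathlib.LinearAlgebra.Matrix.Charpoly.Coeff
import Mathlib.LinearAlgebra.Matrix.Charpoly.Eigs
import Mathlib.RingTheory.IntegralClosure.IntegrallyClosed
import Mathlib.RingTheory.DiscreteValuationRing.Basic
import Mathlib.LinearAlgebra.Projection
import Mathlib.FieldTheory.IsAlgClosed.Basic
import Mathlib.FieldTheory.IsAlgClosed.Spectrum
import Mathlib.RingTheory.Polynomial.RationalRoot

/-!
# Newton slopes of isocrystals over a finite field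
-/

open scoped Isocrystal Pointwise
open Polynomial

universe u v w

namespace Groth.Agent.Lib.Isoc.FiniteField

open Groth.Agent.Lib.Isoc.Order Groth.Agent.Lib.Isoc.Lattice Groth.Agent.Lib.Isoc.Det
  Groth.Agent.Lib.Isoc.Isoclinic Groth.Agent.Lib.Isoc.Decomp

noncomputable section

variable {K : Type*} [Field K] {Ω : Type w} [Field Ω] [Algebra K Ω]

/-- Roots of the characteristic polynomial are roots of every annihilating polynomial. -/
theorem aeval_root {V : Type*} [AddCommGroup V] [Module K V] [Module.Finite K V] (f : V →ₗ[K] V)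
    (h : K[X]) (hh : aeval f h = 0) {α : Ω}
    (hα : α ∈ (f.charpoly.map (algebraMap K Ω)).roots) : aeval α h = 0 := by
  classical
  let b := Module.finBasis K V
  let A := LinearMap.toMatrix b b f
  rcases isEmpty_or_nonempty (Fin (Module.finrank K V)) with he | hne
  · rw [← LinearMap.charpoly_toMatrix f b, Matrix.charpoly_isEmpty,
      Polynomial.map_one, roots_one] at hα
    exact absurd hα (Multiset.notMem_zero α)
  have hA : aeval A h = 0 := by
    have := aeval_algHom_apply (LinearMap.toMatrixAlgEquiv b).toAlgHom f h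
    rw [hh, map_zero] at this
    exact this
  let φ : Matrix (Fin (Module.finrank K V)) (Fin (Module.finrank K V)) K →ₐ[K]
      Matrix (Fin (Module.finrank K V)) (Fin (Module.finrank K V)) Ω := (Algebra.ofId K Ω).mapMatrix
  have hA' : aeval (φ A) (h.map (algebraMap K Ω)) = 0 := by
    rw [aeval_map_algebraMap, aeval_algHom_apply, hA, map_zero]
  have hroot : α ∈ spectrum Ω (φ A) := by
    rw [Matrix.mem_spectrum_iff_isRoot_charpoly]
    have hcp : (φ A).charpoly = f.charpoly.map (algebraMap K Ω) := by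
      rw [← LinearMap.charpoly_toMatrix f b, ← Matrix.charpoly_map]
      rfl
    rw [hcp]
    exact isRoot_of_mem_roots hα
  have := spectrum.subset_polynomial_aeval (φ A) (h.map (algebraMap K Ω)) ⟨α, hroot, rfl⟩
  rw [hA', spectrum.zero_eq, Set.mem_singleton_iff] at this
  simp only [eval_map] at this
  exact this

theorem aeval_restrict {V : Type*} [AddCommGroup V] [Module K V] (f : V →ₗ[K] V)
    {P : Submodule K V} (hP : ∀ x ∈ P, f x ∈ P) (h : K[X]) (x : P) :
    (aeval (f.restrict hP) h x : V) = aeval f h (x : V) := by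
  induction h using Polynomial.induction_on' with
  | add a b ha hb =>
    simp only [map_add, LinearMap.add_apply, Submodule.coe_add, ha, hb]
  | monomial n c =>
    rw [aeval_monomial, aeval_monomial, Module.End.mul_apply, Module.End.mul_apply,
      Module.algebraMap_end_apply, Module.algebraMap_end_apply, Submodule.coe_smul]
    congr 1
    induction n with
    | zero => rfl
    | succ n ih =>
      rw [pow_succ', pow_succ', Module.End.mul_apply, Module.End.mul_apply, ← ih]
      rfl

end

noncomputable section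

variable {p : ℕ} [Fact p.Prime] {k : Type u} [Field k] [CharP k p] [PerfectRing k p]
variable {N : Type v} [AddCommGroup N] [Module (WittVector p k) N] [Module K(p, k) N]
  [IsScalarTower (WittVector p k) K(p, k) N]
variable {τ : K(p, k) →+* K(p, k)} {F : N →ₛₗ[τ] N}
variable (Ω : Type w) [Field Ω] [Algebra (WittVector p k) Ω] [Algebra K(p, k) Ω]
  [IsScalarTower (WittVector p k) K(p, k) Ω]

variable (p k) in
/-- `ord(α) = μ·m`. -/
def HasSlope (m : ℕ) (μ : ℚ) (α : Ω) : Prop :=
  IsIntegral (WittVector p k)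
      (α ^ μ.den * (algebraMap K(p, k) Ω (p : K(p, k))) ^ (-(μ.num * (m : ℤ)))) ∧
    IsIntegral (WittVector p k)
      (α ^ μ.den * (algebraMap K(p, k) Ω (p : K(p, k))) ^ (-(μ.num * (m : ℤ))))⁻¹

theorem exists_annihilator (hτ : Good τ) (hF : Isoc.IsIsoc F) {μ : ℚ}
    (hμ : Isoc.IsIsoclinic F μ) {m : ℕ} (π : N →ₗ[K(p, k)] N) (hπ : ∀ x, π x = (⇑F)^[m] x) :
    ∃ h : K(p, k)[X], aeval π h = 0 ∧ ∀ α : Ω, aeval α h = 0 → α ≠ 0 ∧ HasSlope p k Ω m μ α := by
  have hτn := good_pow hτ μ.den
  obtain ⟨X0, hX0, r, s, hs, hrs, heq⟩ := hμ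
  let G := tw F (-μ.num) μ.den
  have hG : Isoc.IsIsoc G := isIsoc_tw hF _ _
  have hkey : (μ.den : ℤ) * r = μ.num * s := by
    have h1 : (r : ℚ) / s = (μ.num : ℚ) / μ.den := by rw [hrs, Rat.num_div_den]
    rw [div_eq_div_iff (by exact_mod_cast hs.ne') (by exact_mod_cast μ.den_nz)] at h1
    have h2 : r * (μ.den : ℤ) = μ.num * s := by exact_mod_cast h1
    linarith
  have hGs : Isoc.latImg G s X0 = X0 := by
    rw [latImg_tw hτ, latImg_mul_eq hτ heq μ.den, pPow_pPow]
    rw [show (s : ℤ) * -μ.num + (μ.den : ℤ) * r = 0 by linarith, pPow_zero]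
  let M := ⨆ j : Fin s, Isoc.latImg G j.val X0
  have hM : M.IsLattice K(p, k) := by
    refine ⟨?_, top_le_iff.1 (hX0.span_eq_top.ge.trans (Submodule.span_mono ?_))⟩
    · exact Submodule.fg_iSup _ fun j => (isLattice_latImg hτn hG.bijective.2 hX0 j).fg
    · have : X0 ≤ M := (latImg_zero (F := G) (M := X0)).ge.trans
        (le_iSup (fun j : Fin s => Isoc.latImg G j.val X0) ⟨0, hs⟩)
      exact this
  have hGM : Isoc.latImg G 1 M = M := by
    refine le_antisymm (latImg_le_iff.2 fun x hx => ?_) (iSup_le fun j => ?_)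
    · rw [Function.iterate_one]
      induction hx using Submodule.iSup_induction' with
      | mem j y hy =>
        have h1 : G y ∈ Isoc.latImg G (1 + j.val) X0 := by
          rw [← latImg_latImg hτn]
          exact (mem_latImg hτn).2 ⟨y, hy, Function.iterate_one _ ▸ rfl⟩
        rcases eq_or_lt_of_le (Nat.succ_le_of_lt j.isLt) with h | h
        · rw [show 1 + j.val = s by omega, hGs, ← latImg_zero (F := G) (M := X0)] at h1
          exact le_iSup (fun j : Fin s => Isoc.latImg G j.val X0) ⟨0, hs⟩ h1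
        · exact le_iSup (fun j : Fin s => Isoc.latImg G j.val X0) ⟨1 + j.val, by omega⟩ h1
      | zero => rw [map_zero]; exact zero_mem _
      | add a b _ _ ha hb => rw [map_add]; exact add_mem ha hb
    · rcases Nat.eq_zero_or_pos j.val with h | h
      · rw [h, latImg_zero, ← hGs, show s = 1 + (s - 1) by omega, ← latImg_latImg hτn]
        exact latImg_mono (le_iSup (fun j : Fin s => Isoc.latImg G j.val X0) ⟨s - 1, by omega⟩) 1
      · rw [show j.val = 1 + (j.val - 1) by omega, ← latImg_latImg hτn]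
        exact latImg_mono (le_iSup (fun j : Fin s => Isoc.latImg G j.val X0) ⟨j.val - 1, by omega⟩) 1
  have hGMn : ∀ n, Isoc.latImg G n M = M := by
    intro n
    induction n with
    | zero => rw [latImg_zero]
    | succ n ih => rw [add_comm, ← latImg_latImg hτn, ih, hGM]
  let c : K(p, k) := (p : K(p, k)) ^ (-(μ.num * (m : ℤ)))
  let u : N →ₗ[K(p, k)] N := c • π ^ μ.den
  have hu : ∀ x, u x = (⇑G)^[m] x := by
    intro x
    rw [tw_iterate, LinearMap.smul_apply, Module.End.pow_apply,
      show (⇑π) = (⇑F)^[m] from funext hπ, ← Function.iterate_mul]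
    simp only [c]
    rw [show -(μ.num * (m : ℤ)) = (m : ℤ) * -μ.num by ring, mul_comm m μ.den]
  have huM : ∀ x ∈ M, u x ∈ M := fun x hx =>
    hu x ▸ (hGMn m).le ((mem_latImg hτn).2 ⟨x, hx, rfl⟩)
  let uM : M →ₗ[WittVector p k] M := (u.restrictScalars (WittVector p k)).restrict huM
  have hbij : Function.Bijective uM := by
    constructor
    · intro x y hxy
      have h1 : u (x : N) = u (y : N) := congrArg Subtype.val hxy
      rw [hu, hu] at h1
      exact Subtype.ext ((hG.bijective.1.iterate m) h1)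
    · intro y
      obtain ⟨x, hx, hxy⟩ := (mem_latImg hτn).1 ((hGMn m).ge y.2)
      exact ⟨⟨x, hx⟩, Subtype.ext ((hu x).trans hxy)⟩
  have := hM
  have : Module.Finite (WittVector p k) M := Module.Finite.iff_fg.2 hM.fg
  let g : (WittVector p k)[X] := uM.charpoly
  have hg : g.Monic := uM.charpoly_monic
  have hg0 : IsUnit (g.coeff 0) := by
    classical
    let b := Module.Free.chooseBasis (WittVector p k) M
    have h1 : IsUnit (LinearMap.toMatrix b b uM).det := by
      rw [LinearMap.det_toMatrix]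
      exact LinearMap.isUnit_det _ ((Module.End.isUnit_iff _).2 hbij)
    rw [Matrix.det_eq_sign_charpoly_coeff, LinearMap.charpoly_toMatrix] at h1
    exact isUnit_of_mul_isUnit_right h1
  have hgu : aeval u (g.map (algebraMap (WittVector p k) K(p, k))) = 0 := by
    refine LinearMap.ext_on hM.span_eq_top fun x hx => ?_
    have key : ∀ q : (WittVector p k)[X], ∀ y : M, (aeval uM q y : N) =
        aeval u (q.map (algebraMap (WittVector p k) K(p, k))) (y : N) := by
      intro q
      induction q using Polynomial.induction_on' with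
      | add a b ha hb =>
        intro y
        simp only [map_add, Polynomial.map_add, LinearMap.add_apply, Submodule.coe_add, ha, hb]
      | monomial n w =>
        intro y
        rw [aeval_monomial, Polynomial.map_monomial, aeval_monomial, Module.End.mul_apply,
          Module.End.mul_apply, Module.algebraMap_end_apply, Module.algebraMap_end_apply,
          Submodule.coe_smul, w_smul]
        congr 1
        induction n with
        | zero => rfl
        | succ n ih => rw [pow_succ', pow_succ', Module.End.mul_apply, Module.End.mul_apply, ← ih]; rfl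
    have h1 := key g ⟨x, hx⟩
    rw [LinearMap.aeval_self_charpoly] at h1
    exact h1.symm
  refine ⟨(g.map (algebraMap (WittVector p k) K(p, k))).comp (C c * X ^ μ.den), ?_, fun α hα => ?_⟩
  · rw [aeval_comp, map_mul, aeval_C, map_pow, aeval_X, ← Algebra.smul_def]
    exact hgu
  · rw [aeval_comp, map_mul, aeval_C, map_pow, aeval_X, aeval_map_algebraMap, map_zpow₀,
      mul_comm] at hα
    set β := α ^ μ.den * algebraMap K(p, k) Ω (p : K(p, k)) ^ (-(μ.num * (m : ℤ))) with hβ
    have hinj : Function.Injective (algebraMap (WittVector p k) Ω) := by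
      rw [IsScalarTower.algebraMap_eq (WittVector p k) K(p, k) Ω]
      exact (algebraMap K(p, k) Ω).injective.comp Order.algebraMap_injective
    have hβ0 : β ≠ 0 := by
      intro h0
      rw [h0, aeval_def, eval₂_at_zero] at hα
      exact hg0.ne_zero (hinj (hα.trans (map_zero _).symm))
    refine ⟨fun h0 => hβ0 (by rw [hβ, h0, zero_pow μ.den_nz, zero_mul]), ⟨g, hg, hα⟩, C (hg0.unit⁻¹ : (WittVector p k)ˣ).val * g.reverse, ?_, ?_⟩
    · rw [Monic, leadingCoeff_mul, leadingCoeff_C, reverse_leadingCoeff,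
        trailingCoeff_eq_coeff_zero hg0.ne_zero]
      exact hg0.val_inv_mul
    · rw [eval₂_mul]
      have := invertibleOfNonzero hβ0
      rw [← invOf_eq_inv β, (eval₂_reverse_eq_zero_iff (algebraMap (WittVector p k) Ω) β g).2 (by rwa [aeval_def] at hα), mul_zero]

theorem hasSlope_unique {m : ℕ} (hm : m ≠ 0) {μ ν : ℚ} {α : Ω} (h0 : α ≠ 0) (hμ : HasSlope p k Ω m μ α)
    (hν : HasSlope p k Ω m ν α) : μ = ν := by
  suffices key : ∀ μ ν : ℚ, HasSlope p k Ω m μ α → HasSlope p k Ω m ν α →
      0 ≤ -(μ.num * (m : ℤ)) * ν.den + (ν.num * (m : ℤ)) * μ.den by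
    have h1 := key μ ν hμ hν
    have h2 := key ν μ hν hμ
    rw [Rat.eq_iff_mul_eq_mul]
    refine mul_left_cancel₀ (show (m : ℤ) ≠ 0 by exact_mod_cast hm) ?_
    linarith
  clear hμ hν
  intro μ ν hμ hν
  have hp : algebraMap K(p, k) Ω (p : K(p, k)) ≠ 0 :=
    (_root_.map_ne_zero _).2 (WittVector.FractionRing.p_nonzero p k)
  have h := IsIntegral.mul (hμ.1.pow ν.den) (hν.2.pow μ.den)
  have heq : (α ^ μ.den * algebraMap K(p, k) Ω (p : K(p, k)) ^ (-(μ.num * (m : ℤ)))) ^ ν.den *
      ((α ^ ν.den * algebraMap K(p, k) Ω (p : K(p, k)) ^ (-(ν.num * (m : ℤ))))⁻¹) ^ μ.den =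
      algebraMap K(p, k) Ω ((p : K(p, k)) ^
        (-(μ.num * (m : ℤ)) * ν.den + (ν.num * (m : ℤ)) * μ.den)) := by
    rw [map_zpow₀, inv_pow, mul_pow, mul_pow, ← pow_mul, ← pow_mul, mul_comm ν.den μ.den,
      mul_inv, ← zpow_natCast (_ ^ (-(μ.num * (m : ℤ)))), ← zpow_natCast (_ ^ (-(ν.num * (m : ℤ)))),
      ← zpow_mul, ← zpow_mul, ← zpow_neg, mul_mul_mul_comm, mul_inv_cancel₀ (pow_ne_zero _ h0),
      one_mul, ← zpow_add₀ hp]
    congr 1
    ring
  rw [heq, isIntegral_algebraMap_iff (algebraMap K(p, k) Ω).injective,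
    IsIntegrallyClosed.isIntegral_iff] at h
  exact (mem_range_iff (isOrdP_zpow _)).1 h

theorem newtonMult_eq_countP (hτ : Good τ) (hF : Isoc.IsIsoc F) [IsAlgClosed Ω] {m : ℕ} (hm : m ≠ 0)
    (π : N →ₗ[K(p, k)] N) (hπ : ∀ x, π x = (⇑F)^[m] x) [Module.Finite K(p, k) N] (μ : ℚ)
    [DecidablePred (HasSlope p k Ω m μ)] :
    Isoc.newtonMult F μ =
      Multiset.countP (HasSlope p k Ω m μ) ((π.charpoly.map (algebraMap K(p, k) Ω)).roots) := by
  classical
  have hint := isInternal_slopePart hτ hF
  have hind := iSupIndep_slopePart hτ hF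
  have hfin : Fintype {μ : ℚ // Isoc.slopePart F μ ≠ ⊥} := hind.fintypeNeBotOfFiniteDimensional
  have hst : ∀ ν, ∀ x ∈ Isoc.slopePart F ν, π x ∈ Isoc.slopePart F ν := fun ν x hx => by
    rw [hπ]
    have h0 := ((⇑(F.restrict (slopePart_spec hτ hF ν).1))^[m] ⟨x, hx⟩).2
    rwa [iterate_restrict] at h0
  have hann : ∀ ν, ∃ h : K(p, k)[X], (∀ x ∈ Isoc.slopePart F ν, aeval π h x = 0) ∧
      ∀ α : Ω, aeval α h = 0 → α ≠ 0 ∧ HasSlope p k Ω m ν α := by
    intro ν
    obtain ⟨hs, hi⟩ := slopePart_spec hτ hF ν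
    obtain ⟨h, h1, h2⟩ := exists_annihilator (Ω := Ω) hτ (isIsoc_restrict hτ hF hs)
      (hi.isIsoclinic hτ hs) (π.restrict (hst ν)) (fun x => Subtype.ext
        ((hπ x).trans (iterate_restrict hs m x).symm))
    exact ⟨h, fun x hx => by rw [← aeval_restrict π (hst ν) h ⟨x, hx⟩, h1]; rfl, h2⟩
  choose h hhann hhroot using hann
  let Q := ⨆ (ν : ℚ) (_ : ν ≠ μ), Isoc.slopePart F ν
  have hQst : ∀ x ∈ Q, π x ∈ Q := by
    have : Q ≤ Q.comap π := iSup₂_le fun ν hν x hx =>
      Submodule.mem_iSup_of_mem ν (Submodule.mem_iSup_of_mem hν (hst ν x hx))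
    exact this
  have hc : IsCompl (Isoc.slopePart F μ) Q :=
    ⟨iSupIndep_def.1 hind μ, codisjoint_iff.2
      ((iSup_split_single (fun ν => Isoc.slopePart F ν) μ).symm.trans hint.submodule_iSup_eq_top)⟩
  let t : Finset ℚ := ((Finset.univ.map (Function.Embedding.subtype
    fun ν : ℚ => Isoc.slopePart F ν ≠ ⊥)).filter (· ≠ μ))
  have hQann : ∀ x : Q, aeval (π.restrict hQst) (∏ ν ∈ t, h ν) x = 0 := by
    intro x
    refine Subtype.ext ?_
    rw [aeval_restrict, Submodule.coe_zero]
    have : Q ≤ LinearMap.ker (aeval π (∏ ν ∈ t, h ν)) := iSup₂_le fun ν hν y hy => by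
      by_cases h0 : Isoc.slopePart F ν = ⊥
      · rw [h0, Submodule.mem_bot] at hy
        rw [hy]
        exact zero_mem _
      · have hmem : ν ∈ t := Finset.mem_filter.2
          ⟨Finset.mem_map.2 ⟨⟨ν, h0⟩, Finset.mem_univ _, rfl⟩, hν⟩
        rw [LinearMap.mem_ker, ← Finset.prod_erase_mul t h hmem, map_mul, Module.End.mul_apply,
          hhann ν y hy, map_zero]
    exact this x.2
  let f1 := π.restrict (hst μ)
  let f2 := π.restrict hQst
  let e := Submodule.prodEquivOfIsCompl _ _ hc
  have hconj : e.conj (f1.prodMap f2) = π := by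
    refine LinearMap.ext fun x => ?_
    obtain ⟨⟨a, b⟩, rfl⟩ := e.surjective x
    rw [LinearEquiv.conj_apply_apply, e.symm_apply_apply]
    simp only [e, LinearMap.prodMap_apply, Submodule.coe_prodEquivOfIsCompl', map_add]
    rfl
  have hne : ∀ q : K(p, k)[X], q.Monic → q.map (algebraMap K(p, k) Ω) ≠ 0 :=
    fun q hq => (hq.map _).ne_zero
  rw [← hconj, LinearEquiv.charpoly_conj, LinearMap.charpoly_prodMap, Polynomial.map_mul,
    roots_mul (mul_ne_zero (hne _ f1.charpoly_monic) (hne _ f2.charpoly_monic)),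
    Multiset.countP_add]
  have h1 : Multiset.countP (HasSlope p k Ω m μ)
      (f1.charpoly.map (algebraMap K(p, k) Ω)).roots = Isoc.newtonMult F μ := by
    rw [Multiset.countP_eq_card.2 fun α hα => ?_]
    · rw [IsAlgClosed.card_roots_eq_natDegree, natDegree_map, LinearMap.charpoly_natDegree]
      rfl
    · refine (hhroot μ α (aeval_root f1 _ (LinearMap.ext fun x => Subtype.ext ?_) hα)).2
      rw [aeval_restrict, hhann μ x x.2]
      rfl
  have h2 : Multiset.countP (HasSlope p k Ω m μ)
      (f2.charpoly.map (algebraMap K(p, k) Ω)).roots = 0 := by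
    rw [Multiset.countP_eq_zero]
    intro α hα hsl
    have hz := aeval_root f2 _ (LinearMap.ext hQann) hα
    rw [map_prod, Finset.prod_eq_zero_iff] at hz
    obtain ⟨ν, hν, hzν⟩ := hz
    obtain ⟨hα0, hsν⟩ := hhroot ν α hzν
    exact (Finset.mem_filter.1 hν).2 (hasSlope_unique Ω hm hα0 hsν hsl)
  rw [h1, h2, add_zero]

end

end Groth.Agent.Lib.Isoc.FiniteField
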