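import Groth.Agent.Lib.Isoc.Isoclinic

/-!
# The slope-zero part of a map with an invariant lattice, and its complement
-/

open scoped Isocrystal Pointwise

universe u v

namespace Groth.Agent.Lib.Isoc.Fitting

open Groth.Agent.Lib.Isoc.Order Groth.Agent.Lib.Isoc.Lattice Groth.Agent.Lib.Isoc.Det
  Groth.Agent.Lib.Isoc.Index

noncomputable section

variable {p : ℕ} [Fact p.Prime] {k : Type u} [Field k] [CharP k p] [PerfectRing k p]
variable {N : Type v} [AddCommGroup N] [Module (WittVector p k) N] [Module K(p, k) N]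
  [IsScalarTower (WittVector p k) K(p, k) N]
variable {τ : K(p, k) →+* K(p, k)}

/-- The topologically nilpotent part. -/
def nil (hτ : Good τ) (G : N →ₛₗ[τ] N) (M : Submodule (WittVector p k) N) :
    Submodule K(p, k) N where
  carrier := {x | ∀ j : ℕ, ∃ n, ∀ m ≥ n, (⇑G)^[m] x ∈ Isoc.pPow (j : ℤ) M}
  zero_mem' j := ⟨0, fun m _ => by
    change Isoc.iter G m 0 ∈ _
    rw [map_zero]; exact zero_mem _⟩
  add_mem' := by
    intro x y hx hy j
    obtain ⟨n, hn⟩ := hx j
    obtain ⟨n', hn'⟩ := hy j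
    refine ⟨max n n', fun m hm => ?_⟩
    change Isoc.iter G m (x + y) ∈ _
    rw [map_add]
    exact add_mem (hn m (le_of_max_le_left hm)) (hn' m (le_of_max_le_right hm))
  smul_mem' := by
    intro c x hx j
    by_cases hc : c = 0
    · refine ⟨0, fun m _ => ?_⟩
      change Isoc.iter G m (c • x) ∈ _
      rw [hc, zero_smul, map_zero]; exact zero_mem _
    obtain ⟨r, hr⟩ := exists_isOrdP hc
    obtain ⟨n, hn⟩ := hx (j + (-r).toNat)
    refine ⟨n, fun m hm => ?_⟩
    change Isoc.iter G m (c • x) ∈ _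
    obtain ⟨u, hu⟩ := (good_pow hτ m).isOrdP hr
    rw [map_smulₛₗ, hu, mul_smul, zpow_smul_mem_pPow_iff, ← w_smul]
    exact Submodule.smul_mem _ _ (pPow_anti (by omega) (hn m hm))

omit [PerfectRing k p] [IsScalarTower (WittVector p k) K(p, k) N] in
theorem iter_sub (G : N →ₛₗ[τ] N) (n : ℕ) (x y : N) :
    (⇑G)^[n] (x - y) = (⇑G)^[n] x - (⇑G)^[n] y := (Isoc.iter G n).map_sub x y

omit [PerfectRing k p] in
theorem pPow_le_self {M : Submodule (WittVector p k) N} {r : ℤ} (hr : 0 ≤ r) :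
    Isoc.pPow r M ≤ M := (pPow_anti hr).trans_eq pPow_zero

theorem decomposition (hτ : Good τ) {G : N →ₛₗ[τ] N} (hG : Isoc.IsIsoc G)
    {M : Submodule (WittVector p k) N} (hM : M.IsLattice K(p, k)) (hGM : Isoc.latImg G 1 M ≤ M) :
    ∃ (T : Submodule (WittVector p k) N) (S : Submodule K(p, k) N),
      T = M ⊓ S.restrictScalars (WittVector p k) ∧ T.FG ∧
      S = Submodule.span K(p, k) (T : Set N) ∧ Isoc.latImg G 1 T = T ∧ IsCompl S (nil hτ G M) ∧
      ((∀ n : ℕ, ¬ Isoc.latImg G n M ≤ Isoc.pPow 1 M) → S ≠ ⊥) ∧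
      ∀ x, (∀ n, ∃ m ∈ M, (⇑G)^[n] m = x) → x ∈ T := by
  have := hG.finite
  have hinj : Function.Injective G := hG.bijective.1
  have hstep : ∀ n, Isoc.latImg G (n + 1) M ≤ Isoc.latImg G n M := fun n => by
    rw [← latImg_latImg hτ n 1]; exact latImg_mono hGM n
  have hanti : Antitone fun n => Isoc.latImg G n M := antitone_nat_of_succ_le hstep
  have hGle : ∀ n, Isoc.latImg G n M ≤ M := fun n =>
    (hanti (Nat.zero_le n)).trans_eq latImg_zero
  have hGj : ∀ (m : ℕ) (j : ℤ) y, y ∈ Isoc.pPow j M → (⇑G)^[m] y ∈ Isoc.pPow j M := fun m j y hy => by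
    have : (⇑G)^[m] y ∈ Isoc.latImg G m (Isoc.pPow j M) := (mem_latImg hτ).2 ⟨y, hy, rfl⟩
    rw [latImg_pPow hτ] at this
    exact pPow_mono (hGle m) j this
  let T : Submodule (WittVector p k) N := ⨅ n, Isoc.latImg G n M
  have hTM : T ≤ M := (iInf_le _ 0).trans_eq latImg_zero
  have hMnoeth : IsNoetherian (WittVector p k) M := isNoetherian_of_fg_of_noetherian M hM.fg
  have hfg : ∀ X : Submodule (WittVector p k) N, X ≤ M → X.FG := fun X hX => by
    have : IsNoetherian (WittVector p k) X := isNoetherian_of_le hX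
    exact Module.Finite.iff_fg.1 inferInstance
  have hGT : Isoc.latImg G 1 T = T := by
    refine le_antisymm ?_ fun x hx => ?_
    · refine le_iInf fun n => ?_
      refine (latImg_mono (iInf_le (fun n => Isoc.latImg G n M) n) 1).trans ?_
      rw [latImg_latImg hτ]
      exact hanti (by omega)
    · have hx' : ∀ n, x ∈ Isoc.latImg G n M := (Submodule.mem_iInf _).1 hx
      obtain ⟨y, -, hy⟩ := (mem_latImg hτ).1 (hx' 1)
      refine (mem_latImg hτ).2 ⟨y, (Submodule.mem_iInf _).2 fun n => ?_, hy⟩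
      have h1 := hx' (1 + n)
      rw [← latImg_latImg hτ 1 n] at h1
      obtain ⟨z, hz, hzx⟩ := (mem_latImg hτ).1 h1
      rw [Function.iterate_one] at hzx hy
      rwa [hinj (hy.trans hzx.symm)]
  let S : Submodule K(p, k) N := Submodule.span K(p, k) (T : Set N)
  have hSG : ∀ x ∈ S, G x ∈ S := by
    intro x hx
    induction hx using Submodule.span_induction with
    | mem y hy => exact Submodule.subset_span (hGT.le ((mem_latImg hτ).2 ⟨y, hy, Function.iterate_one _ ▸ rfl⟩))
    | zero => rw [map_zero]; exact zero_mem _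
    | add a b _ _ ha hb => rw [map_add]; exact add_mem ha hb
    | smul c a _ ha => rw [map_smulₛₗ]; exact S.smul_mem _ ha
  have hS' : Isoc.latImg G 1 (M ⊓ S.restrictScalars (WittVector p k)) =
      M ⊓ S.restrictScalars (WittVector p k) := by
    let incl : S →ₗ[WittVector p k] N := S.subtype.restrictScalars (WittVector p k)
    have hSf := Isoclinic.isIsoc_restrict hτ hG hSG
    have hTS : ∀ x ∈ T, x ∈ S := fun x hx => Submodule.subset_span hx
    have hiso : Isoclinic.IsoOn G S 0 := ⟨T, hfg T hTM, hTS, le_rfl, 0, 1, one_pos, by simp,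
      by rw [hGT, pPow_zero]⟩
    obtain ⟨X, hX, r, s, hs, hrs, hXeq⟩ := hiso.isIsoclinic hτ hSG
    have hr : r = 0 := by
      rw [div_eq_zero_iff] at hrs
      rcases hrs with h | h
      · exact_mod_cast h
      · exact absurd (by exact_mod_cast h : s = 0) hs.ne'
    subst hr
    have := hSf.finite
    let b := Module.finBasis K(p, k) S
    obtain ⟨d, hd⟩ := exists_isOrdP_detCoeff b hτ hSf.bijective.2
    have hd0 : d = 0 := by
      have h1 := (mul_le_of_latImg_le b hτ hd hX hXeq.le).2.2 hXeq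
      rw [zero_mul] at h1
      rcases mul_eq_zero.1 h1.symm with h | h
      · exact absurd (by exact_mod_cast h : s = 0) hs.ne'
      · exact h
    let T' : Submodule (WittVector p k) S := M.comap incl
    have hT'lat : T'.IsLattice K(p, k) := by
      refine ⟨?_, eq_top_iff.2 fun x _ => ?_⟩
      · have hle : T'.map incl ≤ M := Submodule.map_comap_le _ _
        exact (Submodule.fg_map_iff (f := incl) Subtype.val_injective).1 (hfg _ hle)
      · obtain ⟨c, hc⟩ := exists_mem_pPow hM (x : N)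
        rw [mem_pPow_iff] at hc
        have h1 : (p : K(p, k)) ^ (-c) • x ∈ T' := hc
        have := Submodule.smul_mem (Submodule.span K(p, k) (T' : Set S)) ((p : K(p, k)) ^ c)
          (Submodule.subset_span h1)
        rwa [smul_smul, ← zpow_add₀ p_ne_zero, add_neg_cancel, zpow_zero, one_smul] at this
    have hT'le : Isoc.latImg (G.restrict hSG) 1 T' ≤ T' := by
      rw [latImg_le_iff]
      intro m hm
      exact hGM ((mem_latImg hτ).2 ⟨(m : N), hm, rfl⟩)
    have heq := ((det_aux b hτ hd hT'lat hT'le).2).1 hd0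
    refine le_antisymm ?_ fun x hx => ?_
    · rw [latImg_le_iff]
      intro m hm
      exact ⟨hGM ((mem_latImg hτ).2 ⟨m, hm.1, rfl⟩),
        by rw [Function.iterate_one]; exact hSG m hm.2⟩
    · have h1 : (⟨x, hx.2⟩ : S) ∈ Isoc.latImg (G.restrict hSG) 1 T' := heq.symm ▸ hx.1
      obtain ⟨m, hm, hmx⟩ := (mem_latImg hτ).1 h1
      exact (mem_latImg hτ).2 ⟨m, ⟨hm, m.2⟩, congrArg Subtype.val hmx⟩
  have hTeq : T = M ⊓ S.restrictScalars (WittVector p k) := by
    refine le_antisymm (le_inf hTM fun x hx => Submodule.subset_span hx) (le_iInf fun n => ?_)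
    refine le_trans ?_ (latImg_mono (inf_le_left :
      M ⊓ S.restrictScalars (WittVector p k) ≤ M) n)
    induction n with
    | zero => rw [latImg_zero]
    | succ n ih =>
      conv_lhs => rw [← hS']
      rw [add_comm n 1, ← latImg_latImg hτ 1 n]
      exact latImg_mono ih 1
  have hpure : ∀ (j : ℤ) x, x ∈ T → x ∈ Isoc.pPow j M → x ∈ Isoc.pPow j T := by
    intro j x hxT hxj
    rw [mem_pPow_iff] at hxj ⊢
    rw [hTeq]
    exact ⟨hxj, S.smul_mem _ (Submodule.subset_span hxT)⟩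
  -- stabilisation modulo powers of `p`
  let b := Module.finBasis K(p, k) N
  have hlift : ∀ j : ℕ, ∃ n, Isoc.latImg G n M ≤ T ⊔ Isoc.pPow (j : ℤ) M := by
    have hA : ∀ i : ℕ, ∃ n, ∀ m ≥ n,
        Isoc.latImg G n M ≤ Isoc.latImg G m M ⊔ Isoc.pPow (i : ℤ) M := by
      intro i
      let A : ℕ → Submodule (WittVector p k) N := fun n =>
        Isoc.latImg G n M ⊔ Isoc.pPow (i : ℤ) M
      have hAle : ∀ n, A n ≤ M := fun n => sup_le (hGle n) (pPow_le_self (by omega))
      have hAlat : ∀ n, (A n).IsLattice K(p, k) := fun n => by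
        have := isLattice_pPow hM (i : ℤ)
        exact Submodule.IsLattice.of_le_of_isLattice_of_fg K(p, k)
          (M := Isoc.pPow (i : ℤ) M) le_sup_right (hfg _ (hAle n))
      choose D hD using fun n => exists_isIndex b (hAlat n)
      obtain ⟨d0, hd0⟩ := exists_isIndex b hM
      obtain ⟨m0, hm0⟩ : ∃ m0, ∀ n, D n ≤ D m0 := by
        obtain ⟨e, ⟨m0, rfl⟩, hmax⟩ := Int.exists_greatest_of_bdd (P := fun e => ∃ n, D n = e)
          ⟨(i : ℤ) * Module.finrank K(p, k) N + d0, fun e ⟨n, hn⟩ =>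
            hn ▸ (index_le b (hAlat n) le_sup_right (index_pPow b hd0 i) (hD n)).1⟩ ⟨_, 0, rfl⟩
        exact ⟨m0, fun n => hmax _ ⟨n, rfl⟩⟩
      refine ⟨m0, fun m hm => ?_⟩
      have hle : A m ≤ A m0 := sup_le_sup_right (hanti hm) _
      have h1 := index_le b (hAlat m0) hle (hD m) (hD m0)
      exact (le_sup_left : Isoc.latImg G m0 M ≤ A m0).trans
        (h1.2 (le_antisymm h1.1 (hm0 m))).ge
    choose ν hν using hA
    intro j
    refine ⟨ν j, fun x hx => ?_⟩
    have hseq : ∀ (i : ℕ) (y : N), (∀ m, y ∈ Isoc.latImg G m M ⊔ Isoc.pPow ((j + i : ℕ) : ℤ) M) →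
        ∃ w ∈ M, ∀ m, y + (p : K(p, k)) ^ (((j + i : ℕ)) : ℤ) • w ∈
          Isoc.latImg G m M ⊔ Isoc.pPow ((j + (i + 1) : ℕ) : ℤ) M := by
      intro i y hy
      obtain ⟨a, ha, q, hq, hsum⟩ := Submodule.mem_sup.1 (hy (ν (j + (i + 1))))
      rw [mem_pPow_iff] at hq
      refine ⟨-((p : K(p, k)) ^ (-((j + i : ℕ) : ℤ)) • q), neg_mem hq, fun m => ?_⟩
      rw [smul_neg, smul_smul, ← zpow_add₀ p_ne_zero, add_neg_cancel, zpow_zero, one_smul, ← hsum,
        add_neg_cancel_right]
      rcases le_or_gt (ν (j + (i + 1))) m with hm | hm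
      · exact hν _ m hm ha
      · exact Submodule.mem_sup_left (hanti hm.le ha)
    have hbase : ∀ m, x ∈ Isoc.latImg G m M ⊔ Isoc.pPow ((j + 0 : ℕ) : ℤ) M := fun m => by
      rcases le_or_gt (ν j) m with hm | hm
      · exact hν j m hm hx
      · exact Submodule.mem_sup_left (hanti hm.le hx)
    choose! g hgM hg using hseq
    let y : ℕ → N := Nat.rec x fun i y => y + (p : K(p, k)) ^ (((j + i : ℕ)) : ℤ) • g i y
    have hy : ∀ i m, y i ∈ Isoc.latImg G m M ⊔ Isoc.pPow ((j + i : ℕ) : ℤ) M := by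
      intro i
      induction i with
      | zero => exact hbase
      | succ i ih => exact hg i (y i) ih
    obtain ⟨z, hz, hzrec⟩ := Effective.exists_series hM.fg (fun i => g i (y i))
      fun i => hgM i (y i) (hy i)
    have hlim : ∀ i, x + (p : K(p, k)) ^ (j : ℤ) • z 0 =
        y i + (p : K(p, k)) ^ ((j + i : ℕ) : ℤ) • z i := by
      intro i
      induction i with
      | zero => simp [y]
      | succ i ih =>
        rw [ih, hzrec i, smul_add, w_smul, map_natCast, smul_smul]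
        have : (p : K(p, k)) ^ ((j + i : ℕ) : ℤ) * p = (p : K(p, k)) ^ ((j + (i + 1) : ℕ) : ℤ) := by
          simp only [zpow_natCast, ← pow_succ, add_assoc]
        rw [this]
        simp only [y]
        abel
    have hT : x + (p : K(p, k)) ^ (j : ℤ) • z 0 ∈ T := by
      refine (Submodule.mem_iInf _).2 fun m => ?_
      obtain ⟨e, he⟩ := exists_pPow_le hM (isLattice_latImg hτ hG.bijective.2 hM m)
      rw [hlim e.toNat]
      have h2 : Isoc.pPow ((j + e.toNat : ℕ) : ℤ) M ≤ Isoc.latImg G m M :=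
        (pPow_anti (by push_cast; omega)).trans he
      refine add_mem ?_ (h2 (zpow_smul_mem (hz _)))
      exact sup_le le_rfl h2 (hy _ m)
    have h3 : x = (x + (p : K(p, k)) ^ (j : ℤ) • z 0) + (-((p : K(p, k)) ^ (j : ℤ) • z 0)) := by abel
    rw [h3]
    exact Submodule.add_mem _ (Submodule.mem_sup_left hT)
      (Submodule.mem_sup_right (neg_mem (zpow_smul_mem (hz 0))))
  have hGTn : ∀ n, Isoc.latImg G n T = T := by
    intro n
    induction n with
    | zero => rw [latImg_zero]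
    | succ n ih => rw [add_comm, ← latImg_latImg hτ, ih, hGT]
  have hTj : ∀ (n : ℕ) (j : ℤ) (t : N), t ∈ T → (⇑G)^[n] t ∈ Isoc.pPow j M →
      t ∈ Isoc.pPow j T := by
    intro n j t ht htj
    have h2 : (⇑G)^[n] t ∈ Isoc.pPow j T :=
      hpure _ _ ((hGTn n).le ((mem_latImg hτ).2 ⟨t, ht, rfl⟩)) htj
    rw [← hGTn n, ← latImg_pPow hτ] at h2
    obtain ⟨t', ht', htt⟩ := (mem_latImg hτ).1 h2
    rwa [← (hinj.iterate n) htt]
  have hdisj : Disjoint S (nil hτ G M) := by
    rw [Submodule.disjoint_def]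
    intro x hxS hxN
    obtain ⟨c, hc⟩ := exists_mem_pPow hM x
    rw [mem_pPow_iff] at hc
    have hxT : (p : K(p, k)) ^ (-c) • x ∈ T := by
      rw [hTeq]; exact ⟨hc, S.smul_mem _ hxS⟩
    refine (smul_eq_zero.1 (eq_zero_of_forall_mem_pPow hM
      (x := (p : K(p, k)) ^ (-c) • x) fun j => ?_)).resolve_left (zpow_ne_zero _ p_ne_zero)
    obtain ⟨n, hn⟩ := (nil hτ G M).smul_mem ((p : K(p, k)) ^ (-c)) hxN j
    exact pPow_mono hTM _ (hTj n j _ hxT (hn n le_rfl))
  have hcod : Codisjoint S (nil hτ G M) := by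
    rw [codisjoint_iff, eq_top_iff, ← hM.span_eq_top, Submodule.span_le]
    intro x hx
    choose n hn using hlift
    have hdec : ∀ j : ℕ, ∃ t ∈ T, ∀ m ≥ n j, (⇑G)^[m] (x - t) ∈ Isoc.pPow (j : ℤ) M := by
      intro j
      obtain ⟨t, ht, q, hq, hsum⟩ := Submodule.mem_sup.1
        (hn j ((mem_latImg hτ).2 ⟨x, hx, rfl⟩ : (⇑G)^[n j] x ∈ Isoc.latImg G (n j) M))
      obtain ⟨t', ht', htt⟩ := (mem_latImg hτ).1 ((hGTn (n j)).symm.le ht)
      refine ⟨t', ht', fun m hm => ?_⟩
      obtain ⟨e, rfl⟩ : ∃ e, m = e + n j := ⟨m - n j, by omega⟩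
      rw [Function.iterate_add_apply, iter_sub G (n j), htt, ← hsum, add_sub_cancel_left]
      exact hGj e _ _ hq
    choose t ht htn using hdec
    have hd : ∀ j : ℕ, ∃ w ∈ T, t (j + 1) - t j = (p : K(p, k)) ^ (j : ℤ) • w := by
      intro j
      have h1 := htn j (max (n j) (n (j + 1))) (le_max_left _ _)
      have h2 := pPow_anti (show (j : ℤ) ≤ ((j + 1 : ℕ) : ℤ) by omega)
        (htn (j + 1) (max (n j) (n (j + 1))) (le_max_right _ _))
      have h3 := sub_mem h1 h2
      rw [← iter_sub, sub_sub_sub_cancel_left] at h3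
      have h4 := hTj _ _ _ (sub_mem (ht (j + 1)) (ht j)) h3
      rw [mem_pPow_iff] at h4
      exact ⟨_, h4, by rw [smul_smul, ← zpow_add₀ p_ne_zero, add_neg_cancel, zpow_zero, one_smul]⟩
    choose w hw hwd using hd
    obtain ⟨z, hz, hzrec⟩ := Effective.exists_series (hfg T hTM) w hw
    have hsum : ∀ j : ℕ, t 0 + z 0 = t j + (p : K(p, k)) ^ (j : ℤ) • z j := by
      intro j
      induction j with
      | zero => simp
      | succ j ih =>
        rw [ih, hzrec j, smul_add, w_smul, map_natCast, smul_smul, ← hwd j]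
        simp only [zpow_natCast, ← pow_succ]
        abel
    refine Submodule.mem_sup.2 ⟨t 0 + z 0, Submodule.subset_span (add_mem (ht 0) (hz 0)),
      x - (t 0 + z 0), fun j => ⟨n j, fun m hm => ?_⟩, add_sub_cancel _ _⟩
    rw [hsum j, sub_add_eq_sub_sub, iter_sub]
    refine sub_mem (htn j m hm) ?_
    rw [iterate_zpow_smul]
    exact zpow_smul_mem (hGle m ((mem_latImg hτ).2 ⟨z j, hTM (hz j), rfl⟩))
  refine ⟨T, S, hTeq, hfg T hTM, rfl, hGT, ⟨hdisj, hcod⟩, fun hnn hS0 => ?_,
    fun x hx => (Submodule.mem_iInf _).2 fun n => (mem_latImg hτ).2 (hx n)⟩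
  obtain ⟨n, hn⟩ := hlift 1
  refine hnn n (hn.trans (sup_le ?_ le_rfl))
  intro y hy
  have h1 : y ∈ S := Submodule.subset_span hy
  rw [hS0, Submodule.mem_bot] at h1
  rw [h1]
  exact zero_mem _

end

end Groth.Agent.Lib.Isoc.Fitting
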