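import Groth.Agent.Lib.Isoc.Det

/-!
# The index of lattices and chains between `pM` and `M`
-/

open scoped Isocrystal Pointwise Matrix

universe u v

namespace Groth.Agent.Lib.Isoc.Index

open Groth.Agent.Lib.Isoc.Order Groth.Agent.Lib.Isoc.Lattice Groth.Agent.Lib.Isoc.Det

noncomputable section

variable {p : ℕ} [Fact p.Prime] {k : Type u} [Field k] [CharP k p] [PerfectRing k p]
variable {N : Type v} [AddCommGroup N] [Module (WittVector p k) N] [Module K(p, k) N]
  [IsScalarTower (WittVector p k) K(p, k) N] {h : ℕ}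
variable {τ : K(p, k) →+* K(p, k)}

omit [CharP k p] [PerfectRing k p] in
theorem good_id : Good (RingHom.id K(p, k)) := ⟨RingEquiv.refl _, fun _ => rfl⟩

/-- `δ(X)`: the order of the determinant of a basis of `X` in terms of a fixed basis. -/
def IsIndex (b : Module.Basis (Fin h) K(p, k) N) (X : Submodule (WittVector p k) N) (d : ℤ) : Prop :=
  ∃ c : Module.Basis (Fin h) K(p, k) N,
    (∀ x, x ∈ X ↔ ∀ i, c.repr x i ∈ (algebraMap (WittVector p k) K(p, k)).range) ∧
      Isoc.IsOrdP (b.toMatrix c).det d

theorem exists_isIndex (b : Module.Basis (Fin h) K(p, k) N) {X : Submodule (WittVector p k) N}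
    (hX : X.IsLattice K(p, k)) : ∃ d, IsIndex b X d := by
  obtain ⟨c, hc⟩ := exists_basis_of_lattice hX
    ((Module.finrank_eq_card_basis b).trans (Fintype.card_fin h))
  have hP : (b.toMatrix c).det ≠ 0 := by
    intro h1
    have := congrArg Matrix.det (b.toMatrix_mul_toMatrix_flip c)
    rw [Matrix.det_mul, h1, zero_mul, Matrix.det_one] at this
    exact zero_ne_one this
  obtain ⟨d, hd⟩ := exists_isOrdP hP
  exact ⟨d, c, hc, hd⟩

theorem index_le (b : Module.Basis (Fin h) K(p, k) N) {X Y : Submodule (WittVector p k) N}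
    (hY : Y.IsLattice K(p, k)) (hle : X ≤ Y) {dX dY : ℤ}
    (hdX : IsIndex b X dX) (hdY : IsIndex b Y dY) : dY ≤ dX ∧ (dY = dX → X = Y) := by
  obtain ⟨cX, hcX, hX⟩ := hdX
  obtain ⟨cY, hcY, hdY⟩ := hdY
  have hcYmem : ∀ i, cY i ∈ Y := fun i => (hcY _).2 fun j => by
    rw [Module.Basis.repr_self, Finsupp.single_apply]
    split_ifs
    · exact one_mem _
    · exact zero_mem _
  have hcXmem : ∀ i, cX i ∈ X := fun i => (hcX _).2 fun j => by
    rw [Module.Basis.repr_self, Finsupp.single_apply]
    split_ifs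
    · exact one_mem _
    · exact zero_mem _
  let f : N →ₗ[K(p, k)] N := (cY.equiv cX (Equiv.refl _)).toLinearMap
  have hfb : ∀ i, f (cY i) = cX i := fun i => by simp [f]
  have himg : Isoc.latImg f 1 Y = X := by
    ext x
    rw [mem_latImg good_id]
    constructor
    · rintro ⟨m, hm, rfl⟩
      rw [Function.iterate_one, ← cY.sum_repr m, map_sum]
      refine Submodule.sum_mem _ fun i _ => ?_
      obtain ⟨w, hw⟩ := (hcY m).1 hm i
      rw [map_smul, hfb, ← hw, ← w_smul]
      exact X.smul_mem w (hcXmem i)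
    · intro hx
      refine ⟨∑ i, cX.repr x i • cY i, Submodule.sum_mem _ fun i _ => ?_, ?_⟩
      · obtain ⟨w, hw⟩ := (hcX x).1 hx i
        rw [← hw, ← w_smul]
        exact Y.smul_mem w (hcYmem i)
      · rw [Function.iterate_one, map_sum]
        simp only [map_smul, hfb]
        exact cX.sum_repr x
  have hd : Isoc.IsOrdP (Isoc.detCoeff cY f) (-dY + dX) := by
    have : mat cY f = cY.toMatrix cX := by ext i j; simp [mat, hfb, Module.Basis.toMatrix_apply]
    have h2 := congrArg Matrix.det (b.toMatrix_mul_toMatrix cY cX)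
    rw [Matrix.det_mul] at h2
    have h1 := isOrdP_mul (isOrdP_inv hdY) hX
    rwa [← h2, inv_mul_cancel_left₀ (isOrdP_ne_zero hdY), ← this] at h1
  obtain ⟨h1, h2⟩ := det_aux cY good_id hd hY (by rw [himg]; exact hle)
  refine ⟨by linarith, fun heq => ?_⟩
  rw [← himg, h2.1 (by linarith)]

theorem index_pPow (b : Module.Basis (Fin h) K(p, k) N) {X : Submodule (WittVector p k) N} {d : ℤ}
    (hd : IsIndex b X d) (r : ℤ) : IsIndex b (Isoc.pPow r X) (r * h + d) := by
  obtain ⟨c, hc, hd⟩ := hd
  let c' := c.unitsSMul (fun _ => Units.mk0 ((p : K(p, k)) ^ r) (zpow_ne_zero _ p_ne_zero))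
  refine ⟨c', fun x => ?_, ?_⟩
  · rw [mem_pPow_iff, hc]
    refine forall_congr' fun i => ?_
    rw [map_smul, Finsupp.smul_apply, smul_eq_mul, Module.Basis.repr_unitsSMul, Units.smul_def,
      smul_eq_mul]
    simp [zpow_neg]
  · have : b.toMatrix c' = ((p : K(p, k)) ^ r) • b.toMatrix c := by
      ext i j; simp [c', Module.Basis.toMatrix_apply, Module.Basis.unitsSMul_apply, Units.smul_def]
    rw [this, Matrix.det_smul, Fintype.card_fin]
    convert isOrdP_mul (isOrdP_pow (isOrdP_zpow (p := p) (k := k) r) h) hd using 1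
    ring

/-- If some iterate of `G` maps the stable lattice `M` into `pM` then already the `h`-th one does. -/
theorem latImg_le_of_nilpotent {G : N →ₛₗ[τ] N} (hτ : Good τ)
    (b : Module.Basis (Fin h) K(p, k) N) {M : Submodule (WittVector p k) N}
    (hM : M.IsLattice K(p, k)) (hGM : Isoc.latImg G 1 M ≤ M) {n : ℕ}
    (hn : Isoc.latImg G n M ≤ Isoc.pPow 1 M) : Isoc.latImg G h M ≤ Isoc.pPow 1 M := by
  have hpM : Isoc.pPow 1 M ≤ M := by
    conv_rhs => rw [← pPow_zero (M := M)]
    exact pPow_anti (by norm_num)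
  let A : ℕ → Submodule (WittVector p k) N := fun i => Isoc.latImg G i M ⊔ Isoc.pPow 1 M
  have hanti : ∀ i, A (i + 1) ≤ A i := fun i => by
    refine sup_le_sup_right ?_ _
    rw [← latImg_latImg hτ i 1]
    exact latImg_mono hGM i
  have hA0 : A 0 = M := by
    simp only [A, latImg_zero]; exact sup_eq_left.2 hpM
  have hAle : ∀ i, A i ≤ M := fun i => by
    induction i with
    | zero => exact hA0.le
    | succ i ih => exact (hanti i).trans ih
  have hAlat : ∀ i, (A i).IsLattice K(p, k) := fun i => by
    have := isLattice_pPow hM 1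
    refine Submodule.IsLattice.of_le_of_isLattice_of_fg K(p, k) (M := Isoc.pPow 1 M) le_sup_right ?_
    have := hM
    have : IsNoetherian (WittVector p k) M := isNoetherian_of_fg_of_noetherian M hM.fg
    have : IsNoetherian (WittVector p k) (A i) := isNoetherian_of_le (hAle i)
    exact Module.Finite.iff_fg.1 inferInstance
  have hstep : ∀ i, A (i + 1) = A i → A (i + 2) = A (i + 1) := fun i hi => by
    refine le_antisymm (hanti (i + 1)) (sup_le ?_ le_sup_right)
    rw [show i + 1 = 1 + i by ring, ← latImg_latImg hτ 1 i, latImg_le_iff]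
    intro m hm
    rw [Function.iterate_one]
    have : m ∈ A (i + 1) := hi ▸ (Submodule.mem_sup_left hm : m ∈ A i)
    obtain ⟨a, ha, q, hq, rfl⟩ := Submodule.mem_sup.1 this
    rw [map_add]
    refine Submodule.add_mem _ (Submodule.mem_sup_left ?_) (Submodule.mem_sup_right ?_)
    · rw [show i + 2 = 1 + (i + 1) by ring, ← latImg_latImg hτ 1 (i + 1)]
      exact (mem_latImg hτ).2 ⟨a, ha, Function.iterate_one _ ▸ rfl⟩
    · have : G q ∈ Isoc.latImg G 1 (Isoc.pPow 1 M) :=
        (mem_latImg hτ).2 ⟨q, hq, Function.iterate_one _ ▸ rfl⟩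
      rw [latImg_pPow hτ] at this
      exact pPow_mono hGM 1 this
  obtain ⟨d0, hd0⟩ := exists_isIndex b hM
  choose D hD using fun i => exists_isIndex b (hAlat i)
  have hDn : ∀ i, D i ≤ d0 + h := fun i => by
    have := (index_le b (hAlat i) (le_sup_right : Isoc.pPow 1 M ≤ A i) (index_pPow b hd0 1) (hD i)).1
    omega
  have hD0 : d0 ≤ D 0 := (index_le b hM (hAle 0) (hD 0) hd0).1
  have hstab : ∃ i ≤ h, A (i + 1) = A i := by
    by_contra! hne
    have hgrow : ∀ i, i ≤ h + 1 → d0 + i ≤ D i := by
      intro i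
      induction i with
      | zero => intro _; simpa using hD0
      | succ i ih =>
        intro hi
        have h1 := ih (by omega)
        have h2 := index_le b (hAlat i) (hanti i) (hD (i + 1)) (hD i)
        have : D i ≠ D (i + 1) := fun heq => hne i (by omega) (h2.2 heq)
        have := h2.1
        push_cast
        omega
    have := hgrow (h + 1) le_rfl
    have := hDn (h + 1)
    push_cast at *
    omega
  obtain ⟨i, hi, hAi⟩ := hstab
  have hconst : ∀ j, A (i + j) = A i := by
    intro j
    induction j with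
    | zero => rfl
    | succ j ih =>
      have : ∀ j, A (i + j + 1) = A (i + j) := by
        intro j
        induction j with
        | zero => exact hAi
        | succ j ih => exact hstep _ ih
      rw [← add_assoc, this, ih]
  have hAh : A h ≤ Isoc.pPow 1 M := by
    obtain ⟨j, hj⟩ : ∃ j, h = i + j := ⟨h - i, by omega⟩
    have h1 : A (i + max n j) ≤ Isoc.pPow 1 M := by
      refine sup_le (le_trans ?_ (le_refl _)) le_rfl
      obtain ⟨e, he⟩ : ∃ e, i + max n j = n + e := ⟨i + max n j - n, by omega⟩
      rw [he, ← latImg_latImg hτ n e]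
      refine (latImg_mono ?_ n).trans hn
      induction e with
      | zero => rw [latImg_zero]
      | succ e _ => exact le_sup_left.trans (hAle (e + 1))
    rw [hconst] at h1
    rw [hj, hconst]
    exact h1
  exact le_sup_left.trans hAh

end

end Groth.Agent.Lib.Isoc.Index
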