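import Groth.Agent.Lib.Isoc.Slope
import Mathlib.LinearAlgebra.LinearIndependent.Basic
import Mathlib.LinearAlgebra.Dimension.Free

/-!
# Isoclinic subspaces
-/

open scoped Isocrystal Pointwise

universe u v w

namespace Groth.Agent.Lib.Isoc.Isoclinic

open Groth.Agent.Lib.Isoc.Order Groth.Agent.Lib.Isoc.Lattice Groth.Agent.Lib.Isoc.Det

noncomputable section

variable {p : ℕ} [Fact p.Prime] {k : Type u} [Field k] [CharP k p] [PerfectRing k p]
variable {N : Type v} [AddCommGroup N] [Module (WittVector p k) N] [Module K(p, k) N]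
  [IsScalarTower (WittVector p k) K(p, k) N]
variable {τ : K(p, k) →+* K(p, k)} {F : N →ₛₗ[τ] N}

/-- A set of submodules closed under `sup` has a largest element, if nonempty. -/
theorem sSup_mem_of_sup [Module.Finite K(p, k) N] {S : Set (Submodule K(p, k) N)}
    (hne : S.Nonempty) (hsup : ∀ P ∈ S, ∀ Q ∈ S, P ⊔ Q ∈ S) : sSup S ∈ S := by
  classical
  have hbdd : ∃ n, ∀ P ∈ S, Module.finrank K(p, k) P ≤ n :=
    ⟨_, fun P _ => Submodule.finrank_le P⟩
  obtain ⟨n, hn⟩ := hbdd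
  obtain ⟨P0, hP0⟩ := hne
  let d := Nat.findGreatest (fun m => ∃ P ∈ S, Module.finrank K(p, k) P = m) n
  obtain ⟨P, hP, hPd⟩ : ∃ P ∈ S, Module.finrank K(p, k) P = d :=
    Nat.findGreatest_spec (P := fun m => ∃ P ∈ S, Module.finrank K(p, k) P = m)
      (hn P0 hP0) ⟨P0, hP0, rfl⟩
  suffices sSup S = P by rwa [this]
  refine le_antisymm (sSup_le fun Q hQ => ?_) (le_sSup hP)
  have h1 : Module.finrank K(p, k) ↥(P ⊔ Q) ≤ d :=
    Nat.le_findGreatest (P := fun m => ∃ P ∈ S, Module.finrank K(p, k) P = m)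
      (hn _ (hsup P hP Q hQ)) ⟨_, hsup P hP Q hQ, rfl⟩
  have := Submodule.eq_of_le_of_finrank_le (le_sup_left : P ≤ P ⊔ Q) (by omega)
  exact this ▸ le_sup_right

omit [Module (WittVector p k) N] [IsScalarTower (WittVector p k) K(p, k) N] in
theorem surjOn_of_stable (hτ : Good τ) (hF : Isoc.IsIsoc F) {P : Submodule K(p, k) N}
    (hP : ∀ x ∈ P, F x ∈ P) : ∀ y ∈ P, ∃ x ∈ P, F x = y := by
  have := hF.finite
  let b := Module.finBasis K(p, k) P
  have hli : LinearIndependent K(p, k) (fun i => (⟨F (b i), hP _ (b i).2⟩ : P)) := by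
    refine LinearIndependent.of_comp P.subtype ?_
    have h0 : LinearIndependent K(p, k) (P.subtype ∘ b) :=
      b.linearIndependent.map' P.subtype (Submodule.ker_subtype P)
    exact LinearIndependent.map_of_surjective_injective (M' := N) (R' := K(p, k))
      h0 τ F.toAddMonoidHom hτ.bijective.2
      (fun m hm => hF.bijective.1 (hm.trans F.map_zero.symm)) (fun r m => map_smulₛₗ F r m)
  have hspan := hli.span_eq_top_of_card_eq_finrank' (by simp)
  intro y hy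
  have : (⟨y, hy⟩ : P) ∈ Submodule.span K(p, k) (Set.range fun i => (⟨F (b i), hP _ (b i).2⟩ : P)) :=
    hspan ▸ Submodule.mem_top
  obtain ⟨c, hc⟩ := (Submodule.mem_span_range_iff_exists_fun _).1 this
  choose c' hc' using fun i => hτ.bijective.2 (c i)
  refine ⟨∑ i, c' i • (b i : N), Submodule.sum_mem _ fun i _ => P.smul_mem _ (b i).2, ?_⟩
  rw [map_sum]
  simp only [map_smulₛₗ, hc']
  simpa using congrArg Subtype.val hc

omit [Module (WittVector p k) N] [IsScalarTower (WittVector p k) K(p, k) N] in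
theorem isIsoc_restrict (hτ : Good τ) (hF : Isoc.IsIsoc F) {P : Submodule K(p, k) N}
    (hP : ∀ x ∈ P, F x ∈ P) : Isoc.IsIsoc (F.restrict hP) := by
  have := hF.finite
  refine ⟨inferInstance, fun x y h => ?_, fun y => ?_⟩
  · exact Subtype.ext (hF.bijective.1 (congrArg Subtype.val h))
  · obtain ⟨x, hx, hxy⟩ := surjOn_of_stable hτ hF hP y y.2
    exact ⟨⟨x, hx⟩, Subtype.ext hxy⟩

omit [CharP k p] [PerfectRing k p] [Module (WittVector p k) N]
  [IsScalarTower (WittVector p k) K(p, k) N] in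
theorem iterate_restrict {P : Submodule K(p, k) N} (hP : ∀ x ∈ P, F x ∈ P) (n : ℕ) (x : P) :
    ((⇑(F.restrict hP))^[n] x : N) = (⇑F)^[n] x := by
  induction n with
  | zero => rfl
  | succ n ih =>
    rw [Function.iterate_succ_apply', Function.iterate_succ_apply', ← ih]
    rfl

/-- `P` is isoclinic of slope `μ`, seen inside `N`. -/
def IsoOn (F : N →ₛₗ[τ] N) (P : Submodule K(p, k) N) (μ : ℚ) : Prop :=
  ∃ X : Submodule (WittVector p k) N, X.FG ∧ (∀ x ∈ X, x ∈ P) ∧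
    P ≤ Submodule.span K(p, k) (X : Set N) ∧
      ∃ (r : ℤ) (s : ℕ), 0 < s ∧ (r : ℚ) / s = μ ∧ Isoc.latImg F s X = Isoc.pPow r X

theorem isoOn_of_isIsoclinic (hτ : Good τ) {P : Submodule K(p, k) N} (hP : ∀ x ∈ P, F x ∈ P)
    {μ : ℚ} (h : Isoc.IsIsoclinic (F.restrict hP) μ) : IsoOn F P μ := by
  obtain ⟨X, hX, r, s, hs, hμ, heq⟩ := h
  let incl : P →ₗ[WittVector p k] N := P.subtype.restrictScalars (WittVector p k)
  refine ⟨X.map incl, hX.fg.map _, ?_, ?_, r, s, hs, hμ, ?_⟩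
  · rintro _ ⟨x, -, rfl⟩; exact x.2
  · intro x hx
    have h1 : (⟨x, hx⟩ : P) ∈ Submodule.span K(p, k) (X : Set P) := hX.span_eq_top ▸ Submodule.mem_top
    have h2 := Submodule.mem_map_of_mem (f := P.subtype) h1
    rw [Submodule.map_span] at h2
    exact h2
  · ext y
    simp only [mem_latImg hτ, mem_pPow_iff, Submodule.mem_map]
    constructor
    · rintro ⟨_, ⟨x, hx, rfl⟩, rfl⟩
      have h1 : (⇑(F.restrict hP))^[s] x ∈ Isoc.pPow r X := heq ▸ (mem_latImg hτ).2 ⟨x, hx, rfl⟩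
      rw [mem_pPow_iff] at h1
      refine ⟨_, h1, ?_⟩
      change (p : K(p, k)) ^ (-r) • ((⇑(F.restrict hP))^[s] x : N) = _
      rw [iterate_restrict]
      rfl
    · rintro ⟨z, hz, hzy⟩
      have h1 : (p : K(p, k)) ^ r • z ∈ Isoc.latImg (F.restrict hP) s X := heq ▸ zpow_smul_mem hz
      obtain ⟨x, hx, hxz⟩ := (mem_latImg hτ).1 h1
      refine ⟨_, ⟨x, hx, rfl⟩, ?_⟩
      have h2 := congrArg (fun w : P => (w : N)) hxz
      rw [iterate_restrict] at h2
      change (⇑F)^[s] (x : N) = y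
      rw [h2]
      change (p : K(p, k)) ^ r • incl z = y
      rw [hzy, smul_smul, ← zpow_add₀ p_ne_zero, add_neg_cancel, zpow_zero, one_smul]

theorem IsoOn.isIsoclinic (hτ : Good τ) {P : Submodule K(p, k) N} (hP : ∀ x ∈ P, F x ∈ P) {μ : ℚ}
    (h : IsoOn F P μ) : Isoc.IsIsoclinic (F.restrict hP) μ := by
  obtain ⟨X, hXfg, hXP, hPX, r, s, hs, hμ, heq⟩ := h
  let incl : P →ₗ[WittVector p k] N := P.subtype.restrictScalars (WittVector p k)
  have hmap : (X.comap incl).map incl = X :=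
    Submodule.map_comap_eq_of_le fun x hx => ⟨⟨x, hXP x hx⟩, rfl⟩
  refine ⟨X.comap incl, ⟨?_, ?_⟩, r, s, hs, hμ, ?_⟩
  · exact (Submodule.fg_map_iff (f := incl) Subtype.val_injective).1
      (hmap.symm ▸ hXfg : ((X.comap incl).map incl).FG)
  · refine eq_top_iff.2 fun x _ => ?_
    have h1 := hPX x.2
    rw [← hmap] at h1
    have h2 : ((X.comap incl).map incl : Set N) = P.subtype '' (X.comap incl : Set P) :=
      Submodule.map_coe _ _
    rw [h2, ← Submodule.map_span] at h1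
    obtain ⟨y, hy, hyx⟩ := h1
    exact (Subtype.ext hyx : y = x) ▸ hy
  · ext y
    simp only [mem_latImg hτ, mem_pPow_iff, Submodule.mem_comap]
    constructor
    · rintro ⟨x, hx, rfl⟩
      have h1 : (⇑F)^[s] (x : N) ∈ Isoc.pPow r X := heq ▸ (mem_latImg hτ).2 ⟨_, hx, rfl⟩
      rw [← iterate_restrict hP, mem_pPow_iff] at h1
      exact h1
    · intro hy
      have h1 : (y : N) ∈ Isoc.latImg F s X := by
        rw [heq, mem_pPow_iff]; exact hy
      obtain ⟨x, hx, hxy⟩ := (mem_latImg hτ).1 h1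
      refine ⟨⟨x, hXP x hx⟩, hx, Subtype.ext ?_⟩
      rw [iterate_restrict]
      exact hxy

omit [PerfectRing k p] in
theorem latImg_mul_eq (hτ : Good τ) {X : Submodule (WittVector p k) N} {s : ℕ} {r : ℤ}
    (h : Isoc.latImg F s X = Isoc.pPow r X) :
    ∀ n : ℕ, Isoc.latImg F (n * s) X = Isoc.pPow (n * r) X
  | 0 => by simp
  | n + 1 => by
    rw [add_mul, one_mul, ← latImg_latImg hτ, h, latImg_pPow hτ, latImg_mul_eq hτ h n, pPow_pPow]
    congr 1
    push_cast; ring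

theorem isoOn_bot (F : N →ₛₗ[τ] N) (μ : ℚ) : IsoOn F ⊥ μ := by
  refine ⟨⊥, Submodule.fg_bot, fun x hx => by simpa using hx, bot_le, μ.num, μ.den, μ.den_pos,
    μ.num_div_den, ?_⟩
  have h1 : Isoc.pPow μ.num (⊥ : Submodule (WittVector p k) N) = ⊥ := by
    rw [Isoc.pPow, Submodule.smul_bot']
  rw [h1, eq_bot_iff, Isoc.latImg, Submodule.span_le]
  rintro _ ⟨x, hx, rfl⟩
  rw [(Submodule.mem_bot _).1 hx]
  exact (Submodule.mem_bot _).2 (Isoc.iter F μ.den).map_zero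

omit [PerfectRing k p] in
theorem IsoOn.sup (hτ : Good τ) {P Q : Submodule K(p, k) N} {μ : ℚ} (hP : IsoOn F P μ)
    (hQ : IsoOn F Q μ) : IsoOn F (P ⊔ Q) μ := by
  obtain ⟨X, hX, hXP, hPX, r, s, hs, hμ, heq⟩ := hP
  obtain ⟨Y, hY, hYQ, hQY, r', s', hs', hμ', heq'⟩ := hQ
  have hr : (s' : ℤ) * r = (s : ℤ) * r' := by
    have h1 : (r : ℚ) / s = r' / s' := hμ.trans hμ'.symm
    rw [div_eq_div_iff (by exact_mod_cast hs.ne') (by exact_mod_cast hs'.ne')] at h1
    have : (r : ℤ) * s' = r' * s := by exact_mod_cast h1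
    linarith
  refine ⟨X ⊔ Y, hX.sup hY, fun x hx => ?_, ?_, (s' : ℤ) * r, s' * s, Nat.mul_pos hs' hs, ?_, ?_⟩
  · obtain ⟨a, ha, b, hb, rfl⟩ := Submodule.mem_sup.1 hx
    exact Submodule.mem_sup.2 ⟨a, hXP a ha, b, hYQ b hb, rfl⟩
  · exact sup_le (hPX.trans (Submodule.span_mono fun _ h => Submodule.mem_sup_left h))
      (hQY.trans (Submodule.span_mono fun _ h => Submodule.mem_sup_right h))
  · push_cast
    rw [mul_div_mul_left _ _ (by exact_mod_cast hs'.ne')]
    exact hμ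
  · have h1 := latImg_mul_eq hτ heq s'
    have h2 := latImg_mul_eq hτ heq' s
    rw [mul_comm s s', ← hr] at h2
    have hdist : Isoc.latImg F (s' * s) (X ⊔ Y) =
        Isoc.latImg F (s' * s) X ⊔ Isoc.latImg F (s' * s) Y := by
      refine le_antisymm ?_ (sup_le (latImg_mono le_sup_left _) (latImg_mono le_sup_right _))
      rw [latImg_le_iff]
      intro m hm
      obtain ⟨a, ha, b, hb, rfl⟩ := Submodule.mem_sup.1 hm
      change Isoc.iter F _ (a + b) ∈ _
      rw [map_add]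
      exact Submodule.mem_sup.2
        ⟨_, (mem_latImg hτ).2 ⟨a, ha, rfl⟩, _, (mem_latImg hτ).2 ⟨b, hb, rfl⟩, rfl⟩
    rw [hdist, h1, h2, Isoc.pPow, Isoc.pPow, Isoc.pPow, Submodule.smul_sup']

theorem slopePart_spec (hτ : Good τ) (hF : Isoc.IsIsoc F) (μ : ℚ) :
    (∀ x ∈ Isoc.slopePart F μ, F x ∈ Isoc.slopePart F μ) ∧ IsoOn F (Isoc.slopePart F μ) μ := by
  have := hF.finite
  have hmem := sSup_mem_of_sup (p := p) (k := k)
    (S := {P : Submodule K(p, k) N | (∀ x ∈ P, F x ∈ P) ∧ IsoOn F P μ})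
    ⟨⊥, fun x hx => by rw [(Submodule.mem_bot _).1 hx, map_zero]; exact zero_mem _, isoOn_bot F μ⟩
    (fun P hP Q hQ => ⟨fun x hx => by
      obtain ⟨a, ha, b, hb, rfl⟩ := Submodule.mem_sup.1 hx
      rw [map_add]
      exact Submodule.mem_sup.2 ⟨_, hP.1 a ha, _, hQ.1 b hb, rfl⟩, hP.2.sup hτ hQ.2⟩)
  have hset : {P : Submodule K(p, k) N | (∀ x ∈ P, F x ∈ P) ∧ IsoOn F P μ} =
      {P : Submodule K(p, k) N | ∃ hP : ∀ x ∈ P, F x ∈ P, Isoc.IsIsoclinic (F.restrict hP) μ} := by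
    ext P
    exact ⟨fun h => ⟨h.1, h.2.isIsoclinic hτ h.1⟩,
      fun ⟨hP, h⟩ => ⟨hP, isoOn_of_isIsoclinic hτ hP h⟩⟩
  rw [hset] at hmem
  exact ⟨hmem.1, isoOn_of_isIsoclinic hτ hmem.1 hmem.2⟩

theorem le_slopePart (hτ : Good τ) {P : Submodule K(p, k) N} {μ : ℚ}
    (hP : ∀ x ∈ P, F x ∈ P) (h : IsoOn F P μ) : P ≤ Isoc.slopePart F μ :=
  le_sSup ⟨hP, h.isIsoclinic hτ hP⟩

theorem isIsoclinic_restrict (hτ : Good τ) (hF : Isoc.IsIsoc F) {μ : ℚ}
    (hμ : Isoc.IsIsoclinic F μ) {P : Submodule K(p, k) N} (hP : ∀ x ∈ P, F x ∈ P) :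
    Isoc.IsIsoclinic (F.restrict hP) μ := by
  obtain ⟨M, hM, r, s, hs, hμ, heq⟩ := hμ
  refine IsoOn.isIsoclinic hτ hP ⟨M ⊓ P.restrictScalars (WittVector p k), ?_, fun x hx => hx.2, ?_,
    r, s, hs, hμ, ?_⟩
  · have : IsNoetherian (WittVector p k) M := isNoetherian_of_fg_of_noetherian M hM.fg
    have : IsNoetherian (WittVector p k) ↥(M ⊓ P.restrictScalars (WittVector p k)) :=
      isNoetherian_of_le inf_le_left
    exact Module.Finite.iff_fg.1 inferInstance
  · intro x hx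
    obtain ⟨c, hc⟩ := exists_mem_pPow hM x
    have h1 := Effective.inf_pPow P hc hx
    rw [mem_pPow_iff] at h1
    have := Submodule.smul_mem (Submodule.span K(p, k)
      ((M ⊓ P.restrictScalars (WittVector p k) : Submodule (WittVector p k) N) : Set N))
      ((p : K(p, k)) ^ c) (Submodule.subset_span h1)
    rwa [smul_smul, ← zpow_add₀ p_ne_zero, add_neg_cancel, zpow_zero, one_smul] at this
  · have hPs : ∀ x ∈ P, (⇑F)^[s] x ∈ P := fun x hx => by
      have := ((⇑(F.restrict hP))^[s] ⟨x, hx⟩).2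
      rwa [iterate_restrict] at this
    refine le_antisymm (latImg_le_iff.2 fun m hm => ?_) fun y hy => ?_
    · exact Effective.inf_pPow P (heq ▸ (mem_latImg hτ).2 ⟨m, hm.1, rfl⟩) (hPs m hm.2)
    · have hy1 : y ∈ Isoc.latImg F s M := heq ▸ pPow_mono inf_le_left r hy
      obtain ⟨m, hm, rfl⟩ := (mem_latImg hτ).1 hy1
      have hyP : (⇑F)^[s] m ∈ P := by
        rw [mem_pPow_iff] at hy
        have := P.smul_mem ((p : K(p, k)) ^ r) hy.2
        rwa [smul_smul, ← zpow_add₀ p_ne_zero, add_neg_cancel, zpow_zero, one_smul] at this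
      obtain ⟨z, hz⟩ := ((isIsoc_restrict hτ hF hP).bijective.2.iterate s) ⟨_, hyP⟩
      have h1 := congrArg Subtype.val hz
      rw [iterate_restrict] at h1
      have h2 : (z : N) = m := (hF.bijective.1.iterate s) h1
      exact (mem_latImg hτ).2 ⟨m, ⟨hm, h2 ▸ z.2⟩, rfl⟩

omit [Module (WittVector p k) N] [IsScalarTower (WittVector p k) K(p, k) N] [CharP k p]
  [PerfectRing k p] in
theorem iterate_mapQ {P : Submodule K(p, k) N} (hP : P ≤ P.comap F) (n : ℕ) (x : N) :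
    (⇑(P.mapQ P F hP))^[n] (Submodule.Quotient.mk x) = Submodule.Quotient.mk ((⇑F)^[n] x) := by
  induction n with
  | zero => rfl
  | succ n ih => rw [Function.iterate_succ_apply', Function.iterate_succ_apply', ih]; rfl

omit [PerfectRing k p] in
theorem isIsoclinic_map {N' : Type w} [AddCommGroup N'] [Module (WittVector p k) N']
    [Module K(p, k) N'] [IsScalarTower (WittVector p k) K(p, k) N'] {F' : N' →ₛₗ[τ] N'}
    (hτ : Good τ) {μ : ℚ} (hμ : Isoc.IsIsoclinic F μ) (f : N →ₗ[K(p, k)] N')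
    (hf : ∀ x, f (F x) = F' (f x)) (hsurj : Function.Surjective f) :
    Isoc.IsIsoclinic F' μ := by
  obtain ⟨M, hM, r, s, hs, hμ, heq⟩ := hμ
  have hfn : ∀ (n : ℕ) x, f ((⇑F)^[n] x) = (⇑F')^[n] (f x) := fun n x => by
    induction n with
    | zero => rfl
    | succ n ih => rw [Function.iterate_succ_apply', Function.iterate_succ_apply', hf, ih]
  refine ⟨M.map (f.restrictScalars (WittVector p k)), ⟨hM.fg.map _, ?_⟩, r, s, hs, hμ, ?_⟩
  · rw [Submodule.map_coe]
    change Submodule.span K(p, k) (f '' (M : Set N)) = ⊤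
    rw [← Submodule.map_span, hM.span_eq_top, Submodule.map_top, LinearMap.range_eq_top.2 hsurj]
  · ext y
    simp only [mem_latImg hτ, mem_pPow_iff, Submodule.mem_map]
    constructor
    · rintro ⟨_, ⟨x, hx, rfl⟩, rfl⟩
      refine ⟨_, mem_pPow_iff.1 (heq ▸ (mem_latImg hτ).2 ⟨x, hx, rfl⟩ :
        (⇑F)^[s] x ∈ Isoc.pPow r M), ?_⟩
      change f _ = (p : K(p, k)) ^ (-r) • (⇑F')^[s] (f x)
      rw [map_smul, hfn]
    · rintro ⟨z, hz, hzy⟩
      obtain ⟨x, hx, hxz⟩ := (mem_latImg hτ).1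
        (heq ▸ zpow_smul_mem hz : (p : K(p, k)) ^ r • z ∈ Isoc.latImg F s M)
      refine ⟨_, ⟨x, hx, rfl⟩, ?_⟩
      change (⇑F')^[s] (f x) = y
      rw [← hfn, hxz, map_smul]
      change (p : K(p, k)) ^ r • (f.restrictScalars (WittVector p k)) z = y
      rw [hzy, smul_smul, ← zpow_add₀ p_ne_zero, add_neg_cancel, zpow_zero, one_smul]

theorem slope_unique [Nontrivial N] (hτ : Good τ) (hF : Isoc.IsIsoc F) {μ ν : ℚ}
    (hμ : Isoc.IsIsoclinic F μ) (hν : Isoc.IsIsoclinic F ν) : μ = ν := by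
  have := hF.finite
  let b := Module.finBasis K(p, k) N
  obtain ⟨d, hd⟩ := exists_isOrdP_detCoeff b hτ hF.bijective.2
  have hh : (0 : ℚ) < (Module.finrank K(p, k) N : ℕ) := by exact_mod_cast Module.finrank_pos
  have key : ∀ ρ, Isoc.IsIsoclinic F ρ → ρ = (d : ℚ) / (Module.finrank K(p, k) N : ℕ) := by
    rintro ρ ⟨M, hM, r, s, hs, rfl, heq⟩
    have h1 := (mul_le_of_latImg_le b hτ hd hM heq.le).2.2 heq
    rw [div_eq_div_iff (by exact_mod_cast hs.ne') hh.ne']
    have h2 : ((r * (Module.finrank K(p, k) N : ℕ) : ℤ) : ℚ) = ((s * d : ℤ) : ℚ) := by rw [h1]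
    push_cast at h2
    linarith
  rw [key μ hμ, key ν hν]

theorem hom_eq_zero {N' : Type w} [AddCommGroup N'] [Module (WittVector p k) N']
    [Module K(p, k) N'] [IsScalarTower (WittVector p k) K(p, k) N'] {F' : N' →ₛₗ[τ] N'}
    (hτ : Good τ) (hF' : Isoc.IsIsoc F') {μ ν : ℚ} (hμ : Isoc.IsIsoclinic F μ)
    (hν : Isoc.IsIsoclinic F' ν) (hne : μ ≠ ν) (f : N →ₗ[K(p, k)] N')
    (hf : ∀ x, f (F x) = F' (f x)) : f = 0 := by
  have := hF'.finite
  have hR : ∀ y ∈ LinearMap.range f, F' y ∈ LinearMap.range f := by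
    rintro _ ⟨x, rfl⟩; exact ⟨F x, hf x⟩
  have h1 : Isoc.IsIsoclinic (F'.restrict hR) μ :=
    isIsoclinic_map hτ hμ f.rangeRestrict (fun x => Subtype.ext (hf x))
      (LinearMap.surjective_rangeRestrict f)
  have h2 := isIsoclinic_restrict hτ hF' hν hR
  rcases subsingleton_or_nontrivial (LinearMap.range f) with hs | hs
  · ext x
    exact congrArg Subtype.val (Subsingleton.elim (f.rangeRestrict x) 0)
  · exact absurd (slope_unique hτ (isIsoc_restrict hτ hF' hR) h1 h2) hne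

end

end Groth.Agent.Lib.Isoc.Isoclinic
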