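import Groth.Agent.Lib.Isoc.Effective
import Groth.Agent.Lib.Isoc.Det
import Mathlib.FieldTheory.IsAlgClosed.Basic
import Mathlib.RingTheory.Nakayama
import Mathlib.RingTheory.WittVector.Complete
import Mathlib.Algebra.CharP.Lemmas
import Mathlib.Algebra.Polynomial.Degree.Lemmas

/-!
# Lang's theorem for semilinear maps over `k` and over `W(k)`
-/

open scoped Isocrystal Pointwise Matrix
open Polynomial

universe u v w

namespace Groth.Agent.Lib.Isoc.Lang

open Groth.Agent.Lib.Isoc.Order Groth.Agent.Lib.Isoc.Lattice Groth.Agent.Lib.Isoc.Det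

noncomputable section

variable {p : ℕ} [Fact p.Prime] {k : Type u} [Field k] [CharP k p] [IsAlgClosed k]

section Field

variable {V : Type w} [AddCommGroup V] [Module k V] [Module.Finite k V] {b : ℕ}
variable {φ : V →ₛₗ[iterateFrobenius k p b] V}

theorem one_lt_q (hb : 0 < b) : 1 < p ^ b := Nat.one_lt_pow hb.ne' (Fact.out : p.Prime).one_lt

theorem exists_pow_q_sub (hb : 0 < b) (d : k) : ∃ c : k, c ^ (p ^ b) - c = d := by
  have hq := one_lt_q (p := p) hb
  have hdeg : ((X : k[X]) ^ (p ^ b) - X - C d).natDegree = p ^ b := by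
    rw [natDegree_sub_C, natDegree_sub_eq_left_of_natDegree_lt (by simpa using hq), natDegree_X_pow]
  obtain ⟨c, hc⟩ := IsAlgClosed.exists_root ((X : k[X]) ^ (p ^ b) - X - C d)
    (fun h => by rw [natDegree_eq_zero_iff_degree_le_zero.2 h.le] at hdeg; omega)
  exact ⟨c, by simpa [sub_eq_zero] using hc⟩

theorem exists_fixed_ne_zero [Nontrivial V] (hb : 0 < b) (hφ : Function.Injective φ) :
    ∃ x : V, x ≠ 0 ∧ φ x = x := by
  classical
  obtain ⟨v, hv⟩ := exists_ne (0 : V)
  have hq := one_lt_q (p := p) hb
  let f : ∀ n : ℕ, Fin n → V := fun n i => (⇑φ)^[i.val] v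
  have hsucc : ∀ n, f (n + 1) = Fin.snoc (f n) ((⇑φ)^[n] v) := fun n => by
    ext i; refine Fin.lastCases ?_ (fun j => ?_) i <;> simp [f]
  have hex : ∃ n, (⇑φ)^[n] v ∈ Submodule.span k (Set.range (f n)) := by
    by_contra! hall
    have hli : ∀ n, LinearIndependent k (f n) := by
      intro n
      induction n with
      | zero => exact linearIndependent_empty_type
      | succ n ih => rw [hsucc, linearIndependent_finSnoc]; exact ⟨ih, hall n⟩
    have := (hli (Module.finrank k V + 1)).fintype_card_le_finrank
    simp at this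
  obtain ⟨n, hn, hmin⟩ : ∃ n, (⇑φ)^[n] v ∈ Submodule.span k (Set.range (f n)) ∧
      ∀ j < n, (⇑φ)^[j] v ∉ Submodule.span k (Set.range (f j)) :=
    ⟨Nat.find hex, Nat.find_spec hex, fun j hj => Nat.find_min hex hj⟩
  have hli : ∀ j ≤ n, LinearIndependent k (f j) := by
    intro j
    induction j with
    | zero => exact fun _ => linearIndependent_empty_type
    | succ j ih =>
      intro hj
      rw [hsucc, linearIndependent_finSnoc]
      exact ⟨ih (by omega), hmin j (by omega)⟩
  obtain ⟨m, rfl⟩ : ∃ m, n = m + 1 := by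
    rcases n with _ | m
    · simp [f] at hn; exact absurd hn hv
    · exact ⟨m, rfl⟩
  obtain ⟨a, ha⟩ := (Submodule.mem_span_range_iff_exists_fun k).1 hn
  have ha0 : a 0 ≠ 0 := by
    intro h0
    choose a' ha' using fun i : Fin m =>
      IsAlgClosed.exists_pow_nat_eq (a i.succ) (n := p ^ b) (by omega)
    refine hmin m (by omega) ?_
    have : (⇑φ)^[m] v = ∑ i : Fin m, a' i • f m i := by
      refine hφ ?_
      rw [← Function.iterate_succ_apply' (⇑φ) m v, ← ha, Fin.sum_univ_succ, h0, zero_smul, zero_add,
        map_sum]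
      refine Finset.sum_congr rfl fun i _ => ?_
      rw [map_smulₛₗ, iterateFrobenius_def, ha']
      simp only [f, Fin.val_succ, Function.iterate_succ_apply']
    rw [this]
    exact Submodule.sum_mem _ fun i _ => Submodule.smul_mem _ _ (Submodule.subset_span ⟨i, rfl⟩)
  let a'' : ℕ → k := fun i => if h : i < m + 1 then a ⟨i, h⟩ else 0
  let P : ℕ → k[X] := fun i =>
    Nat.rec (C (a'' 0) * X ^ (p ^ b)) (fun i Q => Q ^ (p ^ b) + C (a'' (i + 1)) * X ^ (p ^ b)) i
  have hP2 : ∀ i, X ^ 2 ∣ P i := by
    intro i
    induction i with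
    | zero => exact (pow_dvd_pow X hq).mul_left _
    | succ i ih => exact dvd_add (ih.trans (dvd_pow_self _ (by omega))) ((pow_dvd_pow X hq).mul_left _)
  have hPdeg : ∀ i, (P i).natDegree = (p ^ b) ^ (i + 1) := by
    intro i
    induction i with
    | zero =>
      have : a'' 0 ≠ 0 := by simpa [a''] using ha0
      simp only [P, Nat.rec_zero, natDegree_C_mul_X_pow _ _ this, zero_add, pow_one]
    | succ i ih =>
      have h1 : ((P i) ^ (p ^ b)).natDegree = (p ^ b) ^ (i + 2) := by
        rw [natDegree_pow, ih, mul_comm, ← pow_succ]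
      have h2 : (C (a'' (i + 1)) * X ^ (p ^ b)).natDegree < ((P i) ^ (p ^ b)).natDegree := by
        refine (natDegree_C_mul_X_pow_le _ _).trans_lt ?_
        rw [h1]
        exact lt_self_pow₀ hq (by omega)
      exact (natDegree_add_eq_left_of_natDegree_lt h2).trans h1
  obtain ⟨g, hg⟩ := hP2 m
  have hg0 : g ≠ 0 := fun h => by
    have := hPdeg m
    rw [hg, h, mul_zero, natDegree_zero] at this
    exact (pow_pos (by omega : 0 < p ^ b) (m + 1)).ne this
  obtain ⟨y, hy⟩ := IsAlgClosed.exists_root (X * g - 1) (fun h => by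
    have hd := natDegree_eq_zero_iff_degree_le_zero.2 h.le
    rw [show (1 : k[X]) = C 1 from C_1.symm, natDegree_sub_C, natDegree_X_mul hg0] at hd
    omega)
  simp only [IsRoot, eval_sub, eval_mul, eval_X, eval_one, sub_eq_zero] at hy
  have hy0 : y ≠ 0 := fun h => by simp [h] at hy
  let c : Fin (m + 1) → k := fun i => (P i.val).eval y
  have hcl : c (Fin.last m) = y := by
    simp only [c, Fin.val_last, hg, eval_mul, eval_pow, eval_X]
    rw [pow_two, mul_assoc, hy, mul_one]
  refine ⟨∑ i, c i • f (m + 1) i, fun h0 => hy0 ?_, ?_⟩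
  · exact hcl ▸ Fintype.linearIndependent_iff.1 (hli (m + 1) le_rfl) c h0 (Fin.last m)
  · conv_lhs => rw [Fin.sum_univ_castSucc, map_add, map_sum, map_smulₛₗ]
    simp only [map_smulₛₗ, iterateFrobenius_def]
    rw [show φ (f (m + 1) (Fin.last m)) = (⇑φ)^[m + 1] v by
      simp only [f, Fin.val_last, Function.iterate_succ_apply'], ← ha, Finset.smul_sum, hcl]
    rw [Fin.sum_univ_succ (f := fun i => y ^ p ^ b • a i • (⇑φ)^[i.val] v),
      Fin.sum_univ_succ (f := fun i => c i • f (m + 1) i)]
    simp only [smul_smul]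
    rw [add_left_comm, ← Finset.sum_add_distrib]
    congr 1
    · change (y ^ p ^ b * a 0) • (⇑φ)^[0] v = (P 0).eval y • (⇑φ)^[0] v
      rw [show P 0 = C (a'' 0) * X ^ (p ^ b) from rfl, eval_mul, eval_C, eval_pow, eval_X,
        show a'' 0 = a 0 from dif_pos m.succ_pos, mul_comm]
    · refine Finset.sum_congr rfl fun i _ => ?_
      rw [show φ (f (m + 1) i.castSucc) = (⇑φ)^[i.succ.val] v by
        simp only [f, Fin.val_castSucc, Fin.val_succ, Function.iterate_succ_apply'], ← add_smul]
      congr 1
      change (P i.val).eval y ^ p ^ b + y ^ p ^ b * a i.succ = (P (i.val + 1)).eval y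
      simp only [show P (i.val + 1) = P i.val ^ (p ^ b) + C (a'' (i.val + 1)) * X ^ (p ^ b) from rfl,
        eval_add, eval_pow, eval_mul, eval_C, eval_X,
        a'', dif_pos (Nat.succ_lt_succ i.isLt)]
      rw [mul_comm (y ^ p ^ b)]
      rfl

omit [Module.Finite k V] in
theorem surj_of_mem_span (hb : 0 < b) {w : V}
    (hw : w ∈ Submodule.span k {x : V | φ x = x}) :
    ∃ z ∈ Submodule.span k {x : V | φ x = x}, φ z - z = w := by
  suffices h : ∀ c : k, ∃ z ∈ Submodule.span k {x : V | φ x = x}, φ z - z = c • w by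
    simpa using h 1
  induction hw using Submodule.span_induction with
  | mem x hx =>
    intro c
    obtain ⟨c', hc'⟩ := exists_pow_q_sub (p := p) hb c
    refine ⟨c' • x, Submodule.smul_mem _ _ (Submodule.subset_span hx), ?_⟩
    rw [map_smulₛₗ, iterateFrobenius_def, show φ x = x from hx, ← sub_smul, hc']
  | zero => exact fun c => ⟨0, zero_mem _, by rw [map_zero, sub_zero, smul_zero]⟩
  | add x y _ _ hx hy =>
    intro c
    obtain ⟨z, hz, hzx⟩ := hx c
    obtain ⟨z', hz', hzy⟩ := hy c
    exact ⟨z + z', add_mem hz hz', by rw [map_add, smul_add, ← hzx, ← hzy]; abel⟩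
  | smul a x _ hx =>
    intro c
    rw [smul_smul]
    exact hx (c * a)

theorem span_fixed (hb : 0 < b) (hφ : Function.Injective φ) :
    Submodule.span k {x : V | φ x = x} = ⊤ := by
  let S := Submodule.span k {x : V | φ x = x}
  by_contra hne
  have hsurj : ∀ x ∈ S, ∃ y ∈ S, φ y = x := by
    intro x hx
    induction hx using Submodule.span_induction with
    | mem x hx => exact ⟨x, Submodule.subset_span hx, hx⟩
    | zero => exact ⟨0, zero_mem _, map_zero φ⟩
    | add x y _ _ hx hy =>
      obtain ⟨x', hx', rfl⟩ := hx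
      obtain ⟨y', hy', rfl⟩ := hy
      exact ⟨x' + y', add_mem hx' hy', map_add φ _ _⟩
    | smul a x _ hx =>
      obtain ⟨x', hx', rfl⟩ := hx
      obtain ⟨a', ha'⟩ := IsAlgClosed.exists_pow_nat_eq a (n := p ^ b)
        (by have := one_lt_q (p := p) hb; omega)
      exact ⟨a' • x', S.smul_mem _ hx', by rw [map_smulₛₗ, iterateFrobenius_def, ha']⟩
  have hS : S ≤ S.comap φ := fun x hx => by
    induction hx using Submodule.span_induction with
    | mem x hx => exact Submodule.subset_span (show φ (φ x) = φ x by rw [show φ x = x from hx]; exact hx)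
    | zero => exact zero_mem _
    | add x y _ _ hx hy => exact add_mem hx hy
    | smul a x _ hx => exact Submodule.smul_mem _ _ hx
  have : Nontrivial (V ⧸ S) := Submodule.Quotient.nontrivial_iff.2 hne
  obtain ⟨q, hq, hfix⟩ := exists_fixed_ne_zero hb (φ := S.mapQ S φ hS)
    ((injective_iff_map_eq_zero _).2 fun q hq => by
      obtain ⟨x, rfl⟩ := Submodule.Quotient.mk_surjective S q
      rw [Submodule.mapQ_apply, Submodule.Quotient.mk_eq_zero] at hq
      obtain ⟨y, hy, hyx⟩ := hsurj _ hq
      rw [Submodule.Quotient.mk_eq_zero]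
      exact hφ hyx ▸ hy)
  obtain ⟨x, rfl⟩ := Submodule.Quotient.mk_surjective S q
  rw [Submodule.mapQ_apply, Submodule.Quotient.eq] at hfix
  obtain ⟨z, hz, hzx⟩ := surj_of_mem_span hb hfix
  refine hq ((Submodule.Quotient.mk_eq_zero S).2 ?_)
  have h1 : x - z ∈ S := Submodule.subset_span (show φ (x - z) = x - z by
    rw [map_sub, sub_eq_sub_iff_sub_eq_sub]; exact hzx.symm)
  simpa using add_mem h1 hz

theorem exists_sub_eq (hb : 0 < b) (hφ : Function.Injective φ) (w : V) : ∃ z, φ z - z = w := by
  obtain ⟨z, -, hz⟩ := surj_of_mem_span (φ := φ) hb (w := w) (span_fixed hb hφ ▸ Submodule.mem_top)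
  exact ⟨z, hz⟩

end Field

variable [PerfectRing k p] {n b : ℕ}

theorem eq_zero_of_forall_pow_dvd {x : WittVector p k}
    (h : ∀ m : ℕ, (p : WittVector p k) ^ m ∣ x) : x = 0 := by
  by_contra hne
  obtain ⟨m, u, hu⟩ := WittVector.exists_eq_pow_p_mul' x hne
  have h2 := h (m + 1)
  rw [hu, pow_succ, mul_dvd_mul_iff_left (pow_ne_zero m (WittVector.p_nonzero p k))] at h2
  exact not_isUnit_p (isUnit_of_dvd_unit h2 u.isUnit)

/-- Lang's theorem over `W(k)` for vectors. -/
theorem span_fixed_witt (hb : 0 < b) (A : Matrix (Fin n) (Fin n) (WittVector p k)) (hA : IsUnit A)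
    (s : WittVector p k →+* WittVector p k) (hs : ∀ x, (s x).coeff 0 = x.coeff 0 ^ p ^ b) :
    Submodule.span (WittVector p k) {w : Fin n → WittVector p k | A *ᵥ (s ∘ w) = w} = ⊤ := by
  let cc : WittVector p k →+* k := WittVector.constantCoeff
  let red : (Fin n → WittVector p k) → (Fin n → k) := fun w => cc ∘ w
  let σ := iterateFrobenius k p b
  let φ : (Fin n → k) →ₛₗ[σ] (Fin n → k) :=
    { toFun := fun x => A.map cc *ᵥ (σ ∘ x)
      map_add' := fun x y => by
        rw [show σ ∘ (x + y) = σ ∘ x + σ ∘ y from funext fun i => map_add σ _ _, Matrix.mulVec_add]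
      map_smul' := fun c x => by
        rw [show σ ∘ (c • x) = σ c • (σ ∘ x) from funext fun i => map_mul σ _ _, Matrix.mulVec_smul] }
  have hφ : Function.Injective φ := by
    have hu : IsUnit (A.map cc) := hA.map cc.mapMatrix
    intro x y hxy
    have h1 := Matrix.mulVec_injective_iff_isUnit.2 hu hxy
    exact funext fun i => σ.injective (congrFun h1 i)
  have hred : ∀ w, red (A *ᵥ (s ∘ w)) = φ (red w) := fun w => by
    funext i
    change cc ((A *ᵥ (s ∘ w)) i) = (A.map cc *ᵥ (σ ∘ red w)) i
    rw [RingHom.map_mulVec, show (cc ∘ (s ∘ w)) = σ ∘ red w from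
      funext fun j => (hs (w j)).trans (iterateFrobenius_def p b _).symm]
  have hker : ∀ w, red w = 0 → ∃ u : Fin n → WittVector p k, w = (p : WittVector p k) • u := by
    intro w hw
    have : ∀ i, ∃ u, w i = (p : WittVector p k) * u := fun i => by
      have h1 : w i ∈ Ideal.span {(p : WittVector p k)} :=
        (WittVector.mem_span_p_iff_coeff_zero_eq_zero _).2 (congrFun hw i)
      exact Ideal.mem_span_singleton'.1 h1 |>.imp fun u hu => by rw [← hu, mul_comm]
    choose u hu using this
    exact ⟨u, funext hu⟩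
  have hlift : ∀ x : Fin n → k, ∃ w, red w = x := fun x =>
    ⟨fun i => WittVector.teichmuller p (x i), funext fun i => WittVector.teichmuller_coeff_zero p _⟩
  let G : (Fin n → WittVector p k) → (Fin n → WittVector p k) := fun w => A *ᵥ (s ∘ w)
  have hGadd : ∀ v w, G (v + w) = G v + G w := fun v w => by
    simp only [G]
    rw [show s ∘ (v + w) = s ∘ v + s ∘ w from funext fun i => map_add s _ _, Matrix.mulVec_add]
  have hGp : ∀ w, G ((p : WittVector p k) • w) = (p : WittVector p k) • G w := fun w => by
    simp only [G]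
    rw [show s ∘ ((p : WittVector p k) • w) = (p : WittVector p k) • (s ∘ w) from
      funext fun i => by simp, Matrix.mulVec_smul]
  have hstep : ∀ w, ∃ z w', w = G z - z + (p : WittVector p k) • w' := fun w => by
    obtain ⟨x, hx⟩ := exists_sub_eq hb hφ (red w)
    obtain ⟨z, hz⟩ := hlift x
    obtain ⟨u, hu⟩ := hker (w - (G z - z)) (by
      funext i
      simp only [red, Function.comp_apply, Pi.sub_apply, map_sub, Pi.zero_apply]
      rw [show cc (G z i) = φ (red z) i from congrFun (hred z) i, hz,
        show cc (w i) = red w i from rfl, ← hx, show cc (z i) = red z i from rfl, hz]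
      simp)
    exact ⟨z, u, by rw [← hu]; abel⟩
  have hsurj : ∀ w, ∃ z, G z - z = w := by
    intro w
    choose zf wf hzw using hstep
    let ws : ℕ → (Fin n → WittVector p k) := fun i => wf^[i] w
    have hws : ∀ i, ws i = G (zf (ws i)) - zf (ws i) + (p : WittVector p k) • ws (i + 1) := fun i => by
      have := hzw (ws i)
      simpa only [ws, Function.iterate_succ_apply'] using this
    choose Z hZ using fun j => Effective.exists_series_scalar (fun i => zf (ws i) j)
    have hZ' : ∀ i, (fun j => Z j i) = zf (ws i) + (p : WittVector p k) • fun j => Z j (i + 1) :=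
      fun i => funext fun j => hZ j i
    let E : ℕ → (Fin n → WittVector p k) := fun i => G (fun j => Z j i) - (fun j => Z j i) - ws i
    have hE : ∀ i, E i = (p : WittVector p k) • E (i + 1) := fun i => by
      simp only [E]
      conv_lhs => rw [hZ' i, hGadd, hGp]
      simp only [smul_sub]
      have := hws i
      generalize zf (ws i) = a at this ⊢
      rw [this]
      abel
    have hEpow : ∀ m, E 0 = (p : WittVector p k) ^ m • E m := by
      intro m
      induction m with
      | zero => simp
      | succ m ih => rw [ih, hE m, smul_smul, ← pow_succ]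
    refine ⟨fun j => Z j 0, ?_⟩
    have : E 0 = 0 := funext fun i =>
      eq_zero_of_forall_pow_dvd fun m => ⟨E m i, by rw [hEpow m]; rfl⟩
    simpa [E, ws, sub_eq_zero] using this
  refine top_le_iff.1 (Submodule.le_of_le_smul_of_le_jacobson_bot
    (I := Ideal.span {(p : WittVector p k)}) Module.Finite.fg_top ?_ fun w _ => ?_)
  · rw [IsLocalRing.jacobson_eq_maximalIdeal _ bot_ne_top, Ideal.span_singleton_le_iff_mem,
      IsLocalRing.mem_maximalIdeal, mem_nonunits_iff]
    exact not_isUnit_p
  · let U := Submodule.span (WittVector p k) {w : Fin n → WittVector p k | A *ᵥ (s ∘ w) = w}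
    have key : ∃ v ∈ U, red v = red w := by
      suffices h : ∀ x ∈ Submodule.span k {x : Fin n → k | φ x = x}, ∃ v ∈ U, red v = x from
        h (red w) (span_fixed hb hφ ▸ Submodule.mem_top)
      intro x hx
      induction hx using Submodule.span_induction with
      | mem x hx =>
        obtain ⟨x0, hx0⟩ := hlift x
        obtain ⟨u, hu⟩ := hker (G x0 - x0) (by
          funext i
          simp only [red, Function.comp_apply, Pi.sub_apply, map_sub, Pi.zero_apply]
          rw [show cc (G x0 i) = φ (red x0) i from congrFun (hred x0) i, hx0, show φ x = x from hx,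
            show cc (x0 i) = red x0 i from rfl, hx0, sub_self])
        obtain ⟨z, hz⟩ := hsurj u
        refine ⟨x0 - (p : WittVector p k) • z, Submodule.subset_span ?_, ?_⟩
        · change G _ = _
          have h1 := hGadd (x0 - (p : WittVector p k) • z) ((p : WittVector p k) • z)
          rw [sub_add_cancel, hGp] at h1
          rw [eq_sub_of_add_eq h1.symm, ← sub_eq_zero]
          rw [← hz, smul_sub] at hu
          rw [← sub_eq_zero.2 hu]
          abel
        · funext i
          rw [← hx0]
          simp only [red, Function.comp_apply, Pi.sub_apply, Pi.smul_apply, smul_eq_mul, map_sub, map_mul,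
            map_natCast, CharP.cast_eq_zero, zero_mul, sub_zero]
      | zero => exact ⟨0, zero_mem _, funext fun i => map_zero cc⟩
      | add x y _ _ hx hy =>
        obtain ⟨v, hv, rfl⟩ := hx
        obtain ⟨v', hv', rfl⟩ := hy
        exact ⟨v + v', add_mem hv hv', funext fun i => map_add cc _ _⟩
      | smul c x _ hx =>
        obtain ⟨v, hv, rfl⟩ := hx
        refine ⟨WittVector.teichmuller p c • v, U.smul_mem _ hv, funext fun i => ?_⟩
        simp only [red, Function.comp_apply, Pi.smul_apply, smul_eq_mul, map_mul]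
        rw [show cc (WittVector.teichmuller p c) = c from WittVector.teichmuller_coeff_zero p _]
    obtain ⟨v, hv, hvw⟩ := key
    obtain ⟨u, hu⟩ := hker (w - v) (funext fun i => by
      simpa [red, sub_eq_zero] using (congrFun hvw i).symm)
    refine Submodule.mem_sup.2 ⟨v, hv, w - v, ?_, add_sub_cancel _ _⟩
    rw [hu]
    exact Submodule.smul_mem_smul (Ideal.mem_span_singleton_self _) Submodule.mem_top

end

end Groth.Agent.Lib.Isoc.Lang
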