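import Groth.Agent.Lib.Isoc.Order
import Mathlib.RingTheory.DiscreteValuationRing.Basic
import Mathlib.Algebra.Module.Submodule.Pointwise

/-!
# Lattices moved by semilinear maps
-/

open scoped Isocrystal Pointwise

universe u v

namespace Groth.Agent.Lib.Isoc.Lattice

open Groth.Agent.Lib.Isoc.Order

noncomputable section

variable {p : ℕ} [Fact p.Prime] {k : Type u} [Field k] [CharP k p]
variable {N : Type v} [AddCommGroup N] [Module (WittVector p k) N] [Module K(p, k) N]
  [IsScalarTower (WittVector p k) K(p, k) N]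
variable {τ : K(p, k) →+* K(p, k)} {F : N →ₛₗ[τ] N}
variable {M M' : Submodule (WittVector p k) N}

theorem w_smul (w : WittVector p k) (x : N) : w • x = algebraMap (WittVector p k) K(p, k) w • x :=
  (algebraMap_smul K(p, k) w x).symm

/-! ### `p^r M` -/

theorem mem_pPow_iff {r : ℤ} {x : N} :
    x ∈ Isoc.pPow r M ↔ (p : K(p, k)) ^ (-r) • x ∈ M := by
  rw [Isoc.pPow, Submodule.mem_smul_pointwise_iff_exists]
  constructor
  · rintro ⟨m, hm, rfl⟩
    rwa [smul_smul, ← zpow_add₀ p_ne_zero, neg_add_cancel, zpow_zero, one_smul]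
  · exact fun h => ⟨_, h, by rw [smul_smul, ← zpow_add₀ p_ne_zero, add_neg_cancel, zpow_zero, one_smul]⟩

theorem zpow_smul_mem_pPow_iff {r s : ℤ} {x : N} :
    (p : K(p, k)) ^ s • x ∈ Isoc.pPow r M ↔ x ∈ Isoc.pPow (r - s) M := by
  rw [mem_pPow_iff, mem_pPow_iff, smul_smul, ← zpow_add₀ p_ne_zero, show -r + s = -(r - s) by ring]

@[simp]
theorem pPow_zero : Isoc.pPow 0 M = M := by
  ext x; rw [mem_pPow_iff]; simp

theorem zpow_smul_mem {r : ℤ} {x : N} (hx : x ∈ M) : (p : K(p, k)) ^ r • x ∈ Isoc.pPow r M := by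
  rw [zpow_smul_mem_pPow_iff, sub_self, pPow_zero]; exact hx

theorem pPow_pPow (r s : ℤ) : Isoc.pPow r (Isoc.pPow s M) = Isoc.pPow (r + s) M := by
  ext x
  rw [mem_pPow_iff, zpow_smul_mem_pPow_iff, show s - -r = r + s by ring]

theorem pPow_mono (h : M ≤ M') (r : ℤ) : Isoc.pPow r M ≤ Isoc.pPow r M' := fun x hx => by
  rw [mem_pPow_iff] at hx ⊢; exact h hx

theorem pPow_anti {r s : ℤ} (h : s ≤ r) : Isoc.pPow r M ≤ Isoc.pPow s M := by
  intro x hx
  rw [mem_pPow_iff] at hx ⊢
  obtain ⟨n, rfl⟩ : ∃ n : ℕ, r = s + n := ⟨(r - s).toNat, by omega⟩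
  have := M.smul_mem ((p : WittVector p k) ^ n) hx
  rwa [w_smul, smul_smul, map_pow, map_natCast, ← zpow_natCast, ← zpow_add₀ p_ne_zero,
    show (n : ℤ) + -(s + n) = -s by ring] at this

theorem pPow_le_pPow_iff {r : ℤ} : Isoc.pPow r M ≤ Isoc.pPow r M' ↔ M ≤ M' := by
  refine ⟨fun h => ?_, fun h => pPow_mono h r⟩
  have := pPow_mono h (-r)
  rwa [pPow_pPow, pPow_pPow, neg_add_cancel, pPow_zero, pPow_zero] at this

theorem pPow_le_iff {r : ℤ} : Isoc.pPow r M ≤ M' ↔ M ≤ Isoc.pPow (-r) M' := by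
  rw [← pPow_le_pPow_iff (r := -r), pPow_pPow, neg_add_cancel, pPow_zero]

/-- `pPow r` as the image under multiplication by `p^r`. -/
theorem pPow_eq_map (r : ℤ) (M : Submodule (WittVector p k) N) :
    Isoc.pPow r M = M.map (((LinearMap.lsmul K(p, k) N) ((p : K(p, k)) ^ r)).restrictScalars
      (WittVector p k)) := by
  ext x
  rw [Isoc.pPow, Submodule.mem_smul_pointwise_iff_exists, Submodule.mem_map]
  rfl

theorem isLattice_pPow (hM : M.IsLattice K(p, k)) (r : ℤ) : (Isoc.pPow r M).IsLattice K(p, k) where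
  fg := by rw [pPow_eq_map]; exact hM.fg.map _
  span_eq_top := by
    refine eq_top_iff.2 ?_
    rw [← hM.span_eq_top]
    refine Submodule.span_le.2 fun x hx => ?_
    have := Submodule.smul_mem (Submodule.span K(p, k) (Isoc.pPow r M : Set N))
      ((p : K(p, k)) ^ (-r)) (Submodule.subset_span (zpow_smul_mem (r := r) hx))
    rwa [smul_smul, ← zpow_add₀ p_ne_zero, neg_add_cancel, zpow_zero, one_smul] at this

/-! ### Comparison of lattices -/

variable [PerfectRing k p]

theorem exists_mem_pPow (hM : M.IsLattice K(p, k)) (x : N) : ∃ c : ℤ, x ∈ Isoc.pPow c M := by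
  have hx : x ∈ Submodule.span K(p, k) (M : Set N) := hM.span_eq_top ▸ Submodule.mem_top
  induction hx using Submodule.span_induction with
  | mem y hy => exact ⟨0, by rwa [pPow_zero]⟩
  | zero => exact ⟨0, zero_mem _⟩
  | add y z _ _ hy hz =>
    obtain ⟨c, hc⟩ := hy
    obtain ⟨d, hd⟩ := hz
    exact ⟨min c d, add_mem (pPow_anti (min_le_left c d) hc) (pPow_anti (min_le_right c d) hd)⟩
  | smul a y _ hy =>
    obtain ⟨c, hc⟩ := hy
    by_cases ha : a = 0
    · exact ⟨c, by rw [ha, zero_smul]; exact zero_mem _⟩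
    obtain ⟨r, u, rfl⟩ := exists_isOrdP ha
    refine ⟨c + r, ?_⟩
    rw [mul_smul, zpow_smul_mem_pPow_iff, add_sub_cancel_right, ← w_smul]
    exact Submodule.smul_mem _ _ hc

theorem exists_le_pPow (hM : M.IsLattice K(p, k)) {X : Submodule (WittVector p k) N} (hX : X.FG) :
    ∃ c : ℤ, X ≤ Isoc.pPow c M := by
  classical
  obtain ⟨s, rfl⟩ := hX
  choose c hc using exists_mem_pPow hM
  refine ⟨-(∑ x ∈ s, |c x|), Submodule.span_le.2 fun x hx => pPow_anti ?_ (hc x)⟩
  have := Finset.single_le_sum (f := fun x => |c x|) (fun i _ => abs_nonneg _) hx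
  have := neg_abs_le (c x)
  omega

theorem exists_pPow_le (hM : M.IsLattice K(p, k)) (hM' : M'.IsLattice K(p, k)) :
    ∃ c : ℤ, Isoc.pPow c M ≤ M' := by
  obtain ⟨c, hc⟩ := exists_le_pPow hM' hM.fg
  exact ⟨-c, by rw [pPow_le_iff, neg_neg]; exact hc⟩

theorem eq_zero_of_forall_mem_pPow (hM : M.IsLattice K(p, k)) {x : N}
    (h : ∀ n : ℕ, x ∈ Isoc.pPow (n : ℤ) M) : x = 0 := by
  have := hM
  let b := Module.Free.chooseBasis (WittVector p k) M
  have hxM : x ∈ M := by simpa using h 0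
  have key : ∀ i, ∀ n : ℕ, (p : WittVector p k) ^ n ∣ b.repr ⟨x, hxM⟩ i := by
    intro i n
    have hm := h n
    rw [mem_pPow_iff] at hm
    refine ⟨b.repr ⟨_, hm⟩ i, ?_⟩
    have : (⟨x, hxM⟩ : M) = (p : WittVector p k) ^ n • (⟨_, hm⟩ : M) := by
      refine Subtype.ext ?_
      change x = (p : WittVector p k) ^ n • ((p : K(p, k)) ^ (-(n : ℤ)) • x)
      rw [w_smul, smul_smul, map_pow, map_natCast, ← zpow_natCast, ← zpow_add₀ p_ne_zero,
        add_neg_cancel, zpow_zero, one_smul]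
    rw [this, map_smul, Finsupp.smul_apply, smul_eq_mul]
  have : b.repr ⟨x, hxM⟩ = 0 := by
    refine Finsupp.ext fun i => ?_
    by_contra hne
    obtain ⟨m, u, hu⟩ := WittVector.exists_eq_pow_p_mul' (b.repr ⟨x, hxM⟩ i) hne
    have h2 := key i (m + 1)
    rw [hu, pow_succ, mul_dvd_mul_iff_left (pow_ne_zero m (WittVector.p_nonzero p k))] at h2
    exact not_isUnit_p (isUnit_of_dvd_unit h2 u.isUnit)
  have h0 : (⟨x, hxM⟩ : M) = 0 := b.repr.injective (by rw [this, map_zero])
  exact congrArg Subtype.val h0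

theorem exists_not_le_pPow (hM : M.IsLattice K(p, k)) {x : N} (hx : x ≠ 0) :
    ∃ r : ℤ, x ∉ Isoc.pPow r M := by
  by_contra! h
  exact hx (eq_zero_of_forall_mem_pPow hM fun n => h n)

/-! ### Images under iterates -/

omit [PerfectRing k p] in
theorem map_w_smul {e : WittVector p k ≃+* WittVector p k}
    (he : ∀ w, τ (algebraMap (WittVector p k) K(p, k) w) = algebraMap (WittVector p k) K(p, k) (e w))
    (w : WittVector p k) (x : N) : F (w • x) = e w • F x := by
  rw [w_smul, map_smulₛₗ, he, ← w_smul]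

omit [PerfectRing k p] in
theorem iterate_w_smul (hτ : Good τ) (s : ℕ) :
    ∃ e : WittVector p k ≃+* WittVector p k, ∀ w (x : N), (⇑F)^[s] (w • x) = e w • (⇑F)^[s] x := by
  obtain ⟨e, he⟩ := good_pow hτ s
  exact ⟨e, fun w x => map_w_smul (F := Isoc.iter F s) he w x⟩

omit [PerfectRing k p] in
theorem mem_latImg (hτ : Good τ) {s : ℕ} {x : N} :
    x ∈ Isoc.latImg F s M ↔ ∃ m ∈ M, (⇑F)^[s] m = x := by
  obtain ⟨e, he⟩ := iterate_w_smul (F := F) hτ s
  constructor
  · intro hx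
    induction hx using Submodule.span_induction with
    | mem y hy => exact hy
    | zero => exact ⟨0, zero_mem _, (Isoc.iter F s).map_zero⟩
    | add y z _ _ hy hz =>
      obtain ⟨a, ha, rfl⟩ := hy
      obtain ⟨b, hb, rfl⟩ := hz
      exact ⟨a + b, add_mem ha hb, (Isoc.iter F s).map_add a b⟩
    | smul w y _ hy =>
      obtain ⟨a, ha, rfl⟩ := hy
      exact ⟨e.symm w • a, Submodule.smul_mem _ _ ha, by rw [he, e.apply_symm_apply]⟩
  · exact fun ⟨m, hm, h⟩ => Submodule.subset_span ⟨m, hm, h⟩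

omit [PerfectRing k p] [IsScalarTower (WittVector p k) K(p, k) N] in
theorem latImg_le_iff {s : ℕ} {X : Submodule (WittVector p k) N} :
    Isoc.latImg F s M ≤ X ↔ ∀ m ∈ M, (⇑F)^[s] m ∈ X := by
  rw [Isoc.latImg, Submodule.span_le, Set.image_subset_iff]
  rfl

omit [PerfectRing k p] [IsScalarTower (WittVector p k) K(p, k) N] in
theorem latImg_mono (h : M ≤ M') (s : ℕ) : Isoc.latImg F s M ≤ Isoc.latImg F s M' :=
  Submodule.span_mono (Set.image_mono h)

omit [PerfectRing k p] [IsScalarTower (WittVector p k) K(p, k) N] in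
@[simp]
theorem latImg_zero : Isoc.latImg F 0 M = M := by
  simp [Isoc.latImg]

omit [PerfectRing k p] in
theorem latImg_latImg (hτ : Good τ) (s t : ℕ) :
    Isoc.latImg F s (Isoc.latImg F t M) = Isoc.latImg F (s + t) M := by
  ext x
  simp only [mem_latImg hτ, Function.iterate_add_apply]
  constructor
  · rintro ⟨y, ⟨m, hm, rfl⟩, rfl⟩; exact ⟨m, hm, rfl⟩
  · rintro ⟨m, hm, rfl⟩; exact ⟨_, ⟨m, hm, rfl⟩, rfl⟩

omit [PerfectRing k p] [IsScalarTower (WittVector p k) K(p, k) N] in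
theorem iterate_zpow_smul (s : ℕ) (r : ℤ) (x : N) :
    (⇑F)^[s] ((p : K(p, k)) ^ r • x) = (p : K(p, k)) ^ r • (⇑F)^[s] x := by
  change Isoc.iter F s _ = _
  rw [map_smulₛₗ, map_zpow_p]
  rfl

omit [PerfectRing k p] in
theorem latImg_pPow (hτ : Good τ) (s : ℕ) (r : ℤ) :
    Isoc.latImg F s (Isoc.pPow r M) = Isoc.pPow r (Isoc.latImg F s M) := by
  ext x
  simp only [mem_latImg hτ, mem_pPow_iff]
  constructor
  · rintro ⟨m, hm, rfl⟩
    exact ⟨_, hm, iterate_zpow_smul _ _ _⟩
  · rintro ⟨m, hm, hmx⟩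
    refine ⟨(p : K(p, k)) ^ r • m, ?_, ?_⟩
    · rwa [smul_smul, ← zpow_add₀ p_ne_zero, neg_add_cancel, zpow_zero, one_smul]
    · rw [iterate_zpow_smul, hmx, smul_smul, ← zpow_add₀ p_ne_zero, add_neg_cancel, zpow_zero,
        one_smul]

theorem isLattice_latImg (hτ : Good τ) (hF : Function.Surjective F) (hM : M.IsLattice K(p, k))
    (s : ℕ) : (Isoc.latImg F s M).IsLattice K(p, k) where
  fg := by
    obtain ⟨S, hS⟩ := hM.fg
    classical
    obtain ⟨e, he⟩ := iterate_w_smul (F := F) hτ s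
    refine ⟨S.image ((⇑F)^[s]), le_antisymm ?_ ?_⟩
    · rw [Finset.coe_image, Submodule.span_le]
      exact fun x ⟨m, hm, hmx⟩ =>
        Submodule.subset_span ⟨m, hS ▸ Submodule.subset_span hm, hmx⟩
    · rw [latImg_le_iff]
      intro m hm
      rw [← hS] at hm
      induction hm using Submodule.span_induction with
      | mem y hy => exact Submodule.subset_span (Finset.mem_coe.2 (Finset.mem_image_of_mem _ hy))
      | zero =>
        change Isoc.iter F s 0 ∈ _
        rw [map_zero]; exact zero_mem _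
      | add y z _ _ hy hz =>
        change Isoc.iter F s (y + z) ∈ _
        rw [map_add]; exact add_mem hy hz
      | smul w y _ hy => rw [he]; exact Submodule.smul_mem _ _ hy
  span_eq_top := by
    refine eq_top_iff.2 fun y _ => ?_
    obtain ⟨x, rfl⟩ := hF.iterate s y
    have hx : x ∈ Submodule.span K(p, k) (M : Set N) := hM.span_eq_top ▸ Submodule.mem_top
    induction hx using Submodule.span_induction with
    | mem z hz => exact Submodule.subset_span (Submodule.subset_span ⟨z, hz, rfl⟩)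
    | zero =>
      change Isoc.iter F s 0 ∈ _
      rw [map_zero]; exact zero_mem _
    | add a b _ _ ha hb =>
      change Isoc.iter F s (a + b) ∈ _
      rw [map_add]; exact add_mem (ha trivial) (hb trivial)
    | smul c a _ ha =>
      change Isoc.iter F s (c • a) ∈ _
      rw [map_smulₛₗ]; exact Submodule.smul_mem _ _ (ha trivial)

/-! ### Twisted iterates -/

/-- The twisted iterate `p^e F^n`. -/
abbrev tw (F : N →ₛₗ[τ] N) (e : ℤ) (n : ℕ) : N →ₛₗ[τ ^ n] N :=
  (p : K(p, k)) ^ e • Isoc.iter F n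

omit [PerfectRing k p] [Module (WittVector p k) N] [IsScalarTower (WittVector p k) K(p, k) N] in
theorem tw_iterate (e : ℤ) (n j : ℕ) (x : N) :
    (⇑(tw F e n))^[j] x = (p : K(p, k)) ^ ((j : ℤ) * e) • (⇑F)^[n * j] x := by
  induction j with
  | zero => simp
  | succ j ih =>
    rw [Function.iterate_succ_apply', ih, LinearMap.smul_apply, Isoc.iter_apply]
    have : (⇑F)^[n] ((p : K(p, k)) ^ ((j : ℤ) * e) • (⇑F)^[n * j] x) =
        (p : K(p, k)) ^ ((j : ℤ) * e) • (⇑F)^[n] ((⇑F)^[n * j] x) := by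
      change Isoc.iter F n _ = _
      rw [map_smulₛₗ, map_zpow_p]
      rfl
    rw [this, smul_smul, ← zpow_add₀ p_ne_zero, ← Function.iterate_add_apply]
    congr 2
    · push_cast; ring
    · ring

omit [PerfectRing k p] in
theorem latImg_tw (hτ : Good τ) (e : ℤ) (n j : ℕ) :
    Isoc.latImg (tw F e n) j M = Isoc.pPow ((j : ℤ) * e) (Isoc.latImg F (n * j) M) := by
  ext x
  simp only [mem_latImg (good_pow hτ n), mem_pPow_iff, mem_latImg hτ, tw_iterate]
  constructor
  · rintro ⟨m, hm, rfl⟩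
    exact ⟨m, hm, by rw [smul_smul, ← zpow_add₀ p_ne_zero, neg_add_cancel, zpow_zero, one_smul]⟩
  · rintro ⟨m, hm, hmx⟩
    exact ⟨m, hm, by rw [hmx, smul_smul, ← zpow_add₀ p_ne_zero, add_neg_cancel, zpow_zero, one_smul]⟩

theorem bijective_tw (hF : Function.Bijective F) (e : ℤ) (n : ℕ) :
    Function.Bijective (tw F e n) := by
  have h1 : Function.Bijective (fun x : N => (p : K(p, k)) ^ e • x) :=
    (LinearEquiv.smulOfUnit (Units.mk0 ((p : K(p, k)) ^ e) (zpow_ne_zero _ p_ne_zero))).bijective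
  exact h1.comp (hF.iterate n)

theorem isIsoc_tw (hF : Isoc.IsIsoc F) (e : ℤ) (n : ℕ) : Isoc.IsIsoc (tw F e n) :=
  ⟨hF.finite, bijective_tw hF.bijective e n⟩

end

end Groth.Agent.Lib.Isoc.Lattice
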