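import Groth.Agent.Lib.Isoc.Lang
import Groth.Agent.Lib.Isoc.Decomp
import Groth.Agent.S17153
import Mathlib.LinearAlgebra.Pi

/-!
# The classification over an algebraically closed field
-/

open scoped Isocrystal Pointwise Matrix

universe u v

namespace Groth.Agent.Lib.Isoc.Manin

open Groth.Agent.Lib.Isoc.Order Groth.Agent.Lib.Isoc.Lattice Groth.Agent.Lib.Isoc.Det
  Groth.Agent.Lib.Isoc.Isoclinic Groth.Agent.Lib.Isoc.Decomp

noncomputable section

variable {p : ℕ} [Fact p.Prime] {k : Type u} [Field k] [CharP k p] [PerfectRing k p]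
variable {N : Type v} [AddCommGroup N] [Module (WittVector p k) N] [Module K(p, k) N]
  [IsScalarTower (WittVector p k) K(p, k) N]

theorem frob_frob (a a' : ℤ) : (Isoc.frob p k a).comp (Isoc.frob p k a') = Isoc.frob p k (a + a') := by
  refine IsLocalization.ringHom_ext (nonZeroDivisors (WittVector p k)) (RingHom.ext fun w => ?_)
  simp only [RingHom.comp_apply, Isoc.frob_algebraMap, zpow_add]
  rfl

theorem frob_pow (a : ℤ) (n : ℕ) : (Isoc.frob p k a) ^ n = Isoc.frob p k (a * n) := by
  induction n with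
  | zero => rw [pow_zero, Nat.cast_zero, mul_zero, Isoc.frob_zero]; rfl
  | succ n ih =>
    rw [pow_succ', ih, RingHom.mul_def, frob_frob]
    congr 1
    push_cast
    ring

theorem coeff_zero_frob : ∀ (b : ℕ) (x : WittVector p k),
    ((WittVector.frobeniusEquiv p k ^ (b : ℤ)) x).coeff 0 = x.coeff 0 ^ p ^ b
  | 0, x => by simp
  | b + 1, x => by
    rw [show ((b + 1 : ℕ) : ℤ) = 1 + (b : ℤ) by push_cast; ring, zpow_add, zpow_one]
    change (WittVector.frobenius ((WittVector.frobeniusEquiv p k ^ (b : ℤ)) x)).coeff 0 = _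
    rw [WittVector.coeff_frobenius_charP, coeff_zero_frob b x, ← pow_mul, ← pow_succ]

variable [IsAlgClosed k]

theorem span_fixed_of_lattice_nat {b : ℕ} (hb : 0 < b) {G : N →ₛₗ[Isoc.frob p k b] N}
    (hG : Isoc.IsIsoc G) {M : Submodule (WittVector p k) N} (hM : M.IsLattice K(p, k))
    (hGM : Isoc.latImg G 1 M = M) : Submodule.span K(p, k) {x | G x = x} = ⊤ := by
  have := hG.finite
  have hτ := good_frob (p := p) (k := k) (b : ℤ)
  obtain ⟨c, hc⟩ := exists_basis_of_lattice hM rfl
  have hcM : ∀ i, c i ∈ M := fun i => (hc _).2 fun j => by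
    rw [Module.Basis.repr_self, Finsupp.single_apply]
    split_ifs
    · exact one_mem _
    · exact zero_mem _
  have hint : ∀ i j, mat c G i j ∈ (algebraMap (WittVector p k) K(p, k)).range := fun i j => by
    have := latImg_le_iff.1 hGM.le (c j) (hcM j)
    rw [Function.iterate_one] at this
    exact (hc _).1 this i
  choose A hA using hint
  have hAmat : mat c G = (Matrix.of A).map (algebraMap (WittVector p k) K(p, k)) := by
    ext i j; exact (hA i j).symm
  obtain ⟨d, hd⟩ := exists_isOrdP_detCoeff c hτ hG.bijective.2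
  have hd0 := (det_aux c hτ hd hM hGM.le).2.2 hGM
  subst hd0
  have hunit : IsUnit (Matrix.of A) := by
    refine (Matrix.isUnit_iff_isUnit_det _).2 ?_
    obtain ⟨u, hu⟩ := hd
    rw [detCoeff_eq, hAmat, ← RingHom.mapMatrix_apply, ← RingHom.map_det, zpow_zero, one_mul] at hu
    rw [algebraMap_injective hu]
    exact u.isUnit
  let s : WittVector p k →+* WittVector p k := (WittVector.frobeniusEquiv p k ^ (b : ℤ)).toRingHom
  have hL := Lang.span_fixed_witt hb (Matrix.of A) hunit s (coeff_zero_frob b)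
  let Ψ := Fintype.linearCombination (WittVector p k) (fun i => c i)
  rw [eq_top_iff, ← c.span_eq, Submodule.span_le]
  rintro _ ⟨i, rfl⟩
  have hi : Ψ (Pi.single i 1) = c i := by
    simp [Ψ, Fintype.linearCombination_apply_single]
  rw [SetLike.mem_coe, ← hi]
  have hi2 : (Pi.single i 1 : Fin _ → WittVector p k) ∈
      Submodule.span (WittVector p k) {w | Matrix.of A *ᵥ (s ∘ w) = w} := hL ▸ Submodule.mem_top
  revert hi2
  generalize (Pi.single i 1 : Fin _ → WittVector p k) = w
  intro hw
  induction hw using Submodule.span_induction with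
  | zero => rw [map_zero]; exact zero_mem _
  | add x y _ _ hx hy => rw [map_add]; exact add_mem hx hy
  | smul r x _ hx => rw [map_smul, w_smul]; exact Submodule.smul_mem _ _ hx
  | mem w hw =>
    refine Submodule.subset_span (show G (Ψ w) = Ψ w from c.repr.injective (Finsupp.ext fun j => ?_))
    have hrepr : ⇑(c.repr (Ψ w)) = algebraMap (WittVector p k) K(p, k) ∘ w := by
      funext l
      simp only [Ψ, Fintype.linearCombination_apply, w_smul]
      rw [← Module.Basis.equivFun_apply, ← Module.Basis.equivFun_symm_apply,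
        LinearEquiv.apply_symm_apply]
      rfl
    rw [congrFun (repr_apply c G _) j, hrepr, hAmat,
      show (⇑(Isoc.frob p k b) ∘ algebraMap (WittVector p k) K(p, k) ∘ w) =
        algebraMap (WittVector p k) K(p, k) ∘ (s ∘ w) from funext fun l => Isoc.frob_algebraMap p k b _,
      ← RingHom.map_mulVec, show Matrix.of A *ᵥ (s ∘ w) = w from hw]
    rfl

/-- Lang's theorem for `σ^b`-semilinear maps with an invariant lattice. -/
theorem span_fixed_of_lattice {τ : K(p, k) →+* K(p, k)} {b : ℤ} (hb : b ≠ 0)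
    (hτ : τ = Isoc.frob p k b) {G : N →ₛₗ[τ] N} (hG : Isoc.IsIsoc G)
    {M : Submodule (WittVector p k) N} (hM : M.IsLattice K(p, k)) (hGM : Isoc.latImg G 1 M = M) :
    Submodule.span K(p, k) {x | G x = x} = ⊤ := by
  subst hτ
  rcases lt_or_gt_of_ne hb with hneg | hpos
  · obtain ⟨m, rfl⟩ : ∃ m : ℕ, b = -(m : ℤ) := ⟨(-b).toNat, by omega⟩
    let g := Function.surjInv hG.bijective.2
    have hg : ∀ y, G (g y) = y := Function.surjInv_eq _
    let G' : N →ₛₗ[Isoc.frob p k (m : ℤ)] N :=
      { toFun := g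
        map_add' := fun x y => hG.bijective.1 (by rw [map_add, hg, hg, hg])
        map_smul' := fun c x => hG.bijective.1 (by
          rw [map_smulₛₗ, hg, hg, ← RingHom.comp_apply, frob_frob, neg_add_cancel, Isoc.frob_zero,
            RingHom.id_apply]) }
    have hG' : Isoc.IsIsoc G' :=
      ⟨hG.finite, (Function.rightInverse_surjInv hG.bijective.2).injective,
        fun x => ⟨G x, hG.bijective.1 (hg _)⟩⟩
    have hG'M : Isoc.latImg G' 1 M = M := by
      ext y
      rw [mem_latImg (good_frob _)]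
      constructor
      · rintro ⟨x, hx, rfl⟩
        obtain ⟨z, hz, hzx⟩ := (mem_latImg (good_frob _)).1 (hGM.symm.le hx)
        rw [Function.iterate_one] at hzx ⊢
        have : G' x = z := hG.bijective.1 ((hg x).trans hzx.symm)
        rwa [this]
      · intro hy
        refine ⟨G y, hGM.le ((mem_latImg (good_frob _)).2 ⟨y, hy, rfl⟩), ?_⟩
        rw [Function.iterate_one]
        exact hG.bijective.1 (hg _)
    have := span_fixed_of_lattice_nat (show 0 < m by omega) hG' hM hG'M
    have hset : {x | G x = x} = {x | G' x = x} := Set.ext fun x =>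
      ⟨fun h => hG.bijective.1 ((hg x).trans h.symm),
        fun h => (congrArg G (show g x = x from h)).symm.trans (hg x)⟩
    rw [hset]
    exact this
  · obtain ⟨m, rfl⟩ := Int.eq_ofNat_of_zero_le hpos.le
    exact span_fixed_of_lattice_nat (by omega) hG hM hGM

omit [IsAlgClosed k] in
theorem latImg_sup {τ : K(p, k) →+* K(p, k)} (hτ : Good τ) (G : N →ₛₗ[τ] N) (s : ℕ)
    (X Y : Submodule (WittVector p k) N) :
    Isoc.latImg G s (X ⊔ Y) = Isoc.latImg G s X ⊔ Isoc.latImg G s Y := by
  refine le_antisymm (latImg_le_iff.2 fun m hm => ?_)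
    (sup_le (latImg_mono le_sup_left _) (latImg_mono le_sup_right _))
  obtain ⟨a, ha, b, hb, rfl⟩ := Submodule.mem_sup.1 hm
  change Isoc.iter G s (a + b) ∈ _
  rw [map_add]
  exact Submodule.add_mem_sup ((mem_latImg hτ).2 ⟨a, ha, rfl⟩) ((mem_latImg hτ).2 ⟨b, hb, rfl⟩)

variable {a : ℤ} {F : N →ₛₗ[Isoc.frob p k a] N}

omit [IsAlgClosed k] in
theorem latImg_finset_sup {τ : K(p, k) →+* K(p, k)} (hτ : Good τ) (G : N →ₛₗ[τ] N) (s : ℕ)
    {ι : Type*} (T : Finset ι) (X : ι → Submodule (WittVector p k) N) :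
    Isoc.latImg G s (T.sup X) = T.sup fun i => Isoc.latImg G s (X i) := by
  classical
  induction T using Finset.induction with
  | empty =>
    rw [Finset.sup_empty, Finset.sup_empty, eq_bot_iff, latImg_le_iff]
    intro m hm
    rw [(Submodule.mem_bot _).1 hm]
    exact (Submodule.mem_bot _).2 (Isoc.iter G s).map_zero
  | insert i T _ ih => rw [Finset.sup_insert, Finset.sup_insert, latImg_sup hτ, ih]

theorem span_eigen_of_isoclinic (ha : a ≠ 0) (hF : Isoc.IsIsoc F) {μ : ℚ}
    (hμ : Isoc.IsIsoclinic F μ) :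
    Submodule.span K(p, k) {x | (⇑F)^[μ.den] x = (p : K(p, k)) ^ μ.num • x} = ⊤ := by
  have hτ := good_frob (p := p) (k := k) a
  have hτn := good_pow hτ μ.den
  obtain ⟨X, hX, r, s, hs, hrs, heq⟩ := hμ
  let G := tw F (-μ.num) μ.den
  have hG : Isoc.IsIsoc G := isIsoc_tw hF _ _
  have hkey : (μ.den : ℤ) * r = μ.num * s := by
    have h1 : (r : ℚ) / s = (μ.num : ℚ) / μ.den := by rw [hrs, Rat.num_div_den]
    rw [div_eq_div_iff (by exact_mod_cast hs.ne') (by exact_mod_cast μ.den_nz)] at h1
    have h2 : r * (μ.den : ℤ) = μ.num * s := by exact_mod_cast h1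
    linarith
  have hGs : Isoc.latImg G s X = X := by
    rw [latImg_tw hτ, latImg_mul_eq hτ heq μ.den, pPow_pPow]
    rw [show (s : ℤ) * -μ.num + (μ.den : ℤ) * r = 0 by linarith, pPow_zero]
  let X' := (Finset.range s).sup fun j => Isoc.latImg G j X
  have hX' : X'.IsLattice K(p, k) := by
    refine ⟨Submodule.fg_finset_sup _ _ fun j _ => (isLattice_latImg hτn hG.bijective.2 hX j).fg,
      top_le_iff.1 (hX.span_eq_top.ge.trans (Submodule.span_mono ?_))⟩
    have : X ≤ X' := (latImg_zero (F := G) (M := X)).ge.trans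
      (Finset.le_sup (f := fun j => Isoc.latImg G j X) (Finset.mem_range.2 hs))
    exact this
  have hGX' : Isoc.latImg G 1 X' = X' := by
    simp only [X', latImg_finset_sup hτn, latImg_latImg hτn]
    refine le_antisymm (Finset.sup_le fun j hj => ?_) (Finset.sup_le fun j hj => ?_)
    · rcases eq_or_lt_of_le (Nat.succ_le_of_lt (Finset.mem_range.1 hj)) with h | h
      · rw [add_comm 1 j, show j + 1 = s from h, hGs]
        exact (latImg_zero (F := G) (M := X)).ge.trans
          (Finset.le_sup (f := fun j => Isoc.latImg G j X) (Finset.mem_range.2 hs))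
      · exact Finset.le_sup (f := fun j => Isoc.latImg G j X) (Finset.mem_range.2 (by omega))
    · rcases Nat.eq_zero_or_pos j with rfl | hj0
      · rw [latImg_zero]
        conv_lhs => rw [← hGs, show s = 1 + (s - 1) by omega]
        exact Finset.le_sup (f := fun j => Isoc.latImg G (1 + j) X)
          (Finset.mem_range.2 (show s - 1 < s by omega))
      · conv_lhs => rw [show j = 1 + (j - 1) by omega]
        exact Finset.le_sup (f := fun j => Isoc.latImg G (1 + j) X)
          (Finset.mem_range.2 (show j - 1 < s by have := Finset.mem_range.1 hj; omega))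
  have h := span_fixed_of_lattice (b := a * μ.den) (mul_ne_zero ha (by exact_mod_cast μ.den_nz))
    (frob_pow a μ.den) hG hX' hGX'
  rw [← h]
  congr 1
  ext x
  change _ ↔ (p : K(p, k)) ^ (-μ.num) • (⇑F)^[μ.den] x = x
  constructor
  · intro hx
    rw [show (⇑F)^[μ.den] x = (p : K(p, k)) ^ μ.num • x from hx, smul_smul, ← zpow_add₀ p_ne_zero, neg_add_cancel, zpow_zero,
      one_smul]
  · intro hx
    change (⇑F)^[μ.den] x = (p : K(p, k)) ^ μ.num • x
    conv_rhs => rw [← hx, smul_smul, ← zpow_add₀ p_ne_zero, add_neg_cancel, zpow_zero, one_smul]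

theorem span_eigen (ha : a ≠ 0) (hF : Isoc.IsIsoc F) :
    Submodule.span K(p, k)
      {x | ∃ μ : ℚ, (⇑F)^[μ.den] x = (p : K(p, k)) ^ μ.num • x} = ⊤ := by
  have hτ := good_frob (p := p) (k := k) a
  rw [eq_top_iff]
  refine le_trans (le_iSup_slopePart hτ hF _ ⊤ le_rfl fun _ _ => Submodule.mem_top)
    (iSup_le fun μ => ?_)
  obtain ⟨hs, hi⟩ := slopePart_spec hτ hF μ
  have h := span_eigen_of_isoclinic ha (isIsoc_restrict hτ hF hs) (hi.isIsoclinic hτ hs)
  have h2 := congrArg (Submodule.map (Isoc.slopePart F μ).subtype) h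
  rw [Submodule.map_span, Submodule.map_subtype_top] at h2
  refine h2.ge.trans (Submodule.span_mono ?_)
  rintro _ ⟨x, hx, rfl⟩
  exact ⟨μ, by
    have := congrArg Subtype.val (show _ = _ from hx)
    rwa [iterate_restrict] at this⟩

/-- The map `L^h → N` attached to a vector. -/
def psi (F : N →ₛₗ[Isoc.frob p k a] N) (h : ℕ) (x : N) : (Fin h → K(p, k)) →ₗ[K(p, k)] N :=
  Fintype.linearCombination K(p, k) fun j : Fin h => (⇑F)^[j.val] x

omit [IsAlgClosed k] [Module (WittVector p k) N] [IsScalarTower (WittVector p k) K(p, k) N] in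
theorem psi_std {d : ℤ} {h : ℕ} {x : N} (hx : (⇑F)^[h] x = (p : K(p, k)) ^ d • x)
    (v : Fin h → K(p, k)) :
    psi F h x (Isoc.stdIsoc (Isoc.frob p k a) d h v) = F (psi F h x v) := by
  rcases h with _ | n
  · simp [psi, Fintype.linearCombination_apply]
  simp only [psi, Fintype.linearCombination_apply, map_sum, map_smulₛₗ]
  rw [← Equiv.sum_comp (finRotate (n + 1))]
  refine Finset.sum_congr rfl fun j _ => ?_
  rw [Isoc.stdIsoc_apply, Equiv.symm_apply_apply, ← Function.iterate_succ_apply' (⇑F),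
    finRotate_succ_apply, Fin.val_add_one]
  by_cases hj : j = Fin.last n
  · subst hj
    rw [if_pos rfl, if_pos rfl, Function.iterate_zero_apply, Fin.val_last, hx, smul_smul, mul_comm]
  · rw [if_neg hj, if_neg (Nat.succ_ne_zero _), one_mul]

omit [IsAlgClosed k] in
theorem isoOn_range_psi {μ : ℚ} {x : N} (hx : (⇑F)^[μ.den] x = (p : K(p, k)) ^ μ.num • x) :
    IsoOn F (LinearMap.range (psi F μ.den x)) μ := by
  have hτ := good_frob (p := p) (k := k) a
  have hshift : ∀ j, (⇑F)^[μ.den] ((⇑F)^[j] x) = (p : K(p, k)) ^ μ.num • (⇑F)^[j] x := fun j => by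
    rw [← Function.iterate_add_apply, add_comm, Function.iterate_add_apply, hx, iterate_zpow_smul]
  have hr : LinearMap.range (psi F μ.den x) =
      Submodule.span K(p, k) (Set.range fun j : Fin μ.den => (⇑F)^[j.val] x) :=
    Fintype.range_linearCombination _ _
  refine ⟨Submodule.span (WittVector p k) (Set.range fun j : Fin μ.den => (⇑F)^[j.val] x),
    Submodule.fg_span (Set.finite_range _), fun y hy => ?_, ?_, μ.num, μ.den, μ.den_pos,
    μ.num_div_den, ?_⟩
  · rw [hr]; exact Submodule.span_subset_span (WittVector p k) K(p, k) _ hy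
  · rw [hr, Submodule.span_span_of_tower]
  · refine le_antisymm (latImg_le_iff.2 fun m hm => ?_) ?_
    · induction hm using Submodule.span_induction with
      | mem y hy =>
        obtain ⟨j, rfl⟩ := hy
        simp only
        rw [hshift]
        exact zpow_smul_mem (Submodule.subset_span ⟨j, rfl⟩)
      | zero => change Isoc.iter F μ.den 0 ∈ _; rw [map_zero]; exact zero_mem _
      | add y z _ _ hy hz => change Isoc.iter F μ.den (y + z) ∈ _; rw [map_add]; exact add_mem hy hz
      | smul w y _ hy =>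
        obtain ⟨e, he⟩ := iterate_w_smul (F := F) hτ μ.den
        rw [he]
        exact Submodule.smul_mem _ _ hy
    · rw [pPow_eq_map, Submodule.map_span, Submodule.span_le]
      rintro _ ⟨_, ⟨j, rfl⟩, rfl⟩
      exact (mem_latImg hτ).2 ⟨_, Submodule.subset_span ⟨j, rfl⟩, hshift _⟩

omit [IsAlgClosed k] [Module (WittVector p k) N] [IsScalarTower (WittVector p k) K(p, k) N] in
theorem stable_range_psi {d : ℤ} {h : ℕ} {x : N} (hx : (⇑F)^[h] x = (p : K(p, k)) ^ d • x) :
    ∀ y ∈ LinearMap.range (psi F h x), F y ∈ LinearMap.range (psi F h x) := by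
  rintro _ ⟨v, rfl⟩
  exact ⟨_, psi_std hx v⟩

/-- The combined map of a family. -/
def phi (F : N →ₛₗ[Isoc.frob p k a] N) {t : ℕ} (μs : Fin t → ℚ) (xs : Fin t → N) :
    ((i : Fin t) → (Fin (μs i).den → K(p, k))) →ₗ[K(p, k)] N :=
  ∑ i, (psi F (μs i).den (xs i)).comp (LinearMap.proj i)

theorem exists_family (ha : a ≠ 0) (hF : Isoc.IsIsoc F) :
    ∀ (n : ℕ) (P : Submodule K(p, k) N), Module.finrank K(p, k) N - Module.finrank K(p, k) P ≤ n →
      (∀ x ∈ P, F x ∈ P) →
      ∃ (t : ℕ) (μs : Fin t → ℚ) (xs : Fin t → N),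
        (∀ i, (⇑F)^[(μs i).den] (xs i) = (p : K(p, k)) ^ (μs i).num • xs i) ∧
          Function.Injective (phi F μs xs) ∧ IsCompl P (LinearMap.range (phi F μs xs)) := by
  have := hF.finite
  intro n
  induction n with
  | zero =>
    intro P hn _
    have hP : P = ⊤ := Submodule.eq_top_of_finrank_eq (le_antisymm (Submodule.finrank_le P) (by omega))
    refine ⟨0, Fin.elim0, Fin.elim0, fun i => i.elim0, fun v w _ => Subsingleton.elim v w, ?_⟩
    rw [hP, show phi F (Fin.elim0 : Fin 0 → ℚ) Fin.elim0 = 0 by simp [phi], LinearMap.range_zero]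
    exact isCompl_top_bot
  | succ n ih =>
    intro P hn hP
    by_cases hPt : P = ⊤
    · refine ⟨0, Fin.elim0, Fin.elim0, fun i => i.elim0, fun v w _ => Subsingleton.elim v w, ?_⟩
      rw [hPt, show phi F (Fin.elim0 : Fin 0 → ℚ) Fin.elim0 = 0 by simp [phi], LinearMap.range_zero]
      exact isCompl_top_bot
    obtain ⟨x, ⟨μ, hμ⟩, hxP⟩ : ∃ x ∈ {x | ∃ μ : ℚ, (⇑F)^[μ.den] x = (p : K(p, k)) ^ μ.num • x},
        x ∉ P := by
      by_contra! hall
      exact hPt (top_le_iff.1 ((span_eigen ha hF).ge.trans (Submodule.span_le.2 hall)))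
    let ψ := psi F μ.den x
    have hstab : ∀ v ∈ P.comap ψ, Isoc.stdIsoc (Isoc.frob p k a) μ.num μ.den v ∈ P.comap ψ := by
      intro v hv
      rw [Submodule.mem_comap, psi_std hμ]
      exact hP _ hv
    have hbot : P.comap ψ = ⊥ := by
      refine (Groth.Agent.S17153.result p k a μ.num μ.den μ.den_pos ?_ _ hstab).resolve_right
        fun htop => hxP ?_
      · exact μ.reduced
      · have h1 : (Pi.single ⟨0, μ.den_pos⟩ 1 : Fin μ.den → K(p, k)) ∈ P.comap ψ := by
          rw [htop]; exact Submodule.mem_top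
        rw [Submodule.mem_comap] at h1
        simpa [ψ, psi, Fintype.linearCombination_apply_single] using h1
    have hψ : Function.Injective ψ := by
      refine (injective_iff_map_eq_zero ψ).2 fun v hv => (Submodule.mem_bot K(p, k)).1 (hbot ▸ ?_)
      rw [Submodule.mem_comap, hv]
      exact zero_mem _
    have hdisj : Disjoint P (LinearMap.range ψ) := by
      rw [Submodule.disjoint_def]
      rintro _ hy ⟨v, rfl⟩
      have : v ∈ P.comap ψ := hy
      rw [hbot, Submodule.mem_bot] at this
      rw [this, map_zero]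
    let P' := P ⊔ LinearMap.range ψ
    have hP' : ∀ y ∈ P', F y ∈ P' := fun y hy => by
      obtain ⟨u, hu, w, hw, rfl⟩ := Submodule.mem_sup.1 hy
      rw [map_add]
      exact Submodule.add_mem_sup (hP u hu) (stable_range_psi hμ w hw)
    have hlt : Module.finrank K(p, k) P < Module.finrank K(p, k) P' := by
      refine Submodule.finrank_lt_finrank_of_lt (lt_of_le_of_ne le_sup_left fun h => hxP ?_)
      have : x ∈ P' := Submodule.mem_sup_right ⟨Pi.single ⟨0, μ.den_pos⟩ 1, by
        simp [ψ, psi, Fintype.linearCombination_apply_single]⟩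
      rwa [← h] at this
    obtain ⟨t, μs, xs, hxs, hinj, hcompl⟩ := ih P' (by
      have := Submodule.finrank_le P'
      omega) hP'
    refine ⟨t + 1, Fin.cons μ μs, Fin.cons x xs, Fin.cases hμ hxs, ?_⟩
    let Φ := phi F (Fin.cons μ μs : Fin (t + 1) → ℚ) (Fin.cons x xs : Fin (t + 1) → N)
    have hΦ : ∀ v, Φ v = ψ (v 0) + phi F μs xs (fun i => v i.succ) := fun v => by
      simp only [Φ, phi, LinearMap.sum_apply, LinearMap.comp_apply, LinearMap.proj_apply]
      rw [Fin.sum_univ_succ]
      rfl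
    have hrange : LinearMap.range Φ = LinearMap.range ψ ⊔ LinearMap.range (phi F μs xs) := by
      refine le_antisymm ?_ (sup_le ?_ ?_)
      · rintro _ ⟨v, rfl⟩
        rw [hΦ]
        exact Submodule.add_mem_sup ⟨_, rfl⟩ ⟨_, rfl⟩
      · rintro _ ⟨w, rfl⟩
        refine ⟨Fin.cases w (fun i => 0), ?_⟩
        rw [hΦ]
        simp only [Fin.cases_zero, Fin.cases_succ]
        change ψ w + phi F μs xs 0 = ψ w
        rw [map_zero, add_zero]
      · rintro _ ⟨w, rfl⟩
        refine ⟨Fin.cases 0 w, ?_⟩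
        rw [hΦ]
        simp only [Fin.cases_zero, Fin.cases_succ]
        change ψ 0 + phi F μs xs w = phi F μs xs w
        rw [map_zero, zero_add]
    refine ⟨?_, ?_⟩
    · refine (injective_iff_map_eq_zero Φ).2 fun v hv => ?_
      rw [hΦ] at hv
      have h1 : phi F μs xs (fun i => v i.succ) ∈ P' := by
        rw [eq_neg_of_add_eq_zero_right hv]
        exact neg_mem (Submodule.mem_sup_right ⟨_, rfl⟩)
      have h2 : phi F μs xs (fun i => v i.succ) = 0 :=
        Submodule.disjoint_def.1 hcompl.disjoint _ h1 ⟨_, rfl⟩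
      have h3 : (fun i : Fin t => v i.succ) = 0 := hinj (h2.trans (map_zero _).symm)
      rw [h2, add_zero] at hv
      funext i
      refine Fin.cases ?_ (fun i => ?_) i
      · exact hψ (hv.trans (map_zero ψ).symm)
      · exact congrFun h3 i
    · change IsCompl P (LinearMap.range Φ)
      rw [hrange]
      refine ⟨hdisj.disjoint_sup_right_of_disjoint_sup_left hcompl.disjoint, ?_⟩
      rw [codisjoint_iff, ← sup_assoc]
      exact hcompl.sup_eq_top

omit [IsAlgClosed k] [Module (WittVector p k) N] [IsScalarTower (WittVector p k) K(p, k) N] in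
theorem phi_std {t : ℕ} {μs : Fin t → ℚ} {xs : Fin t → N}
    (hxs : ∀ i, (⇑F)^[(μs i).den] (xs i) = (p : K(p, k)) ^ (μs i).num • xs i)
    (v : (i : Fin t) → (Fin (μs i).den → K(p, k))) :
    phi F μs xs (fun i => Isoc.stdIsoc (Isoc.frob p k a) (μs i).num (μs i).den (v i)) =
      F (phi F μs xs v) := by
  simp only [phi, LinearMap.sum_apply, LinearMap.comp_apply, LinearMap.proj_apply, map_sum]
  exact Finset.sum_congr rfl fun i _ => psi_std (hxs i) (v i)

theorem exists_stable_compl (ha : a ≠ 0) (hF : Isoc.IsIsoc F) {P : Submodule K(p, k) N}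
    (hP : ∀ x ∈ P, F x ∈ P) :
    ∃ Q : Submodule K(p, k) N, (∀ x ∈ Q, F x ∈ Q) ∧ IsCompl P Q := by
  obtain ⟨t, μs, xs, hxs, -, hc⟩ := exists_family ha hF _ P le_rfl hP
  refine ⟨_, ?_, hc⟩
  rintro _ ⟨v, rfl⟩
  exact ⟨_, phi_std hxs v⟩

theorem classification (ha : a ≠ 0) (hF : Isoc.IsIsoc F) :
    ∃ (t : ℕ) (d : Fin t → ℤ) (h : Fin t → ℕ)
      (e : N ≃ₗ[K(p, k)] ((i : Fin t) → (Fin (h i) → K(p, k)))),
      (∀ i, 0 < h i ∧ Int.gcd (d i) (h i) = 1) ∧
      (∀ (x : N) (i : Fin t), e (F x) i = Isoc.stdIsoc (Isoc.frob p k a) (d i) (h i) (e x i)) ∧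
      ∀ μ : ℚ, Isoc.newtonMult F μ =
        ∑ i : Fin t, (if ((d i : ℚ) / (h i : ℚ)) = μ then h i else 0) := by
  classical
  have := hF.finite
  have hτ := good_frob (p := p) (k := k) a
  obtain ⟨t, μs, xs, hxs, hinj, hc⟩ := exists_family ha hF _ ⊥ le_rfl
    (fun x hx => by rw [(Submodule.mem_bot _).1 hx, map_zero]; exact zero_mem _)
  let Φ := phi F μs xs
  have hsurj : Function.Surjective Φ := by
    rw [← LinearMap.range_eq_top]
    simpa [Φ] using hc.sup_eq_top
  let E := LinearEquiv.ofBijective Φ ⟨hinj, hsurj⟩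
  refine ⟨t, fun i => (μs i).num, fun i => (μs i).den, E.symm,
    fun i => ⟨(μs i).den_pos, (μs i).reduced⟩, fun x i => ?_, fun μ => ?_⟩
  · obtain ⟨v, rfl⟩ : ∃ v, E v = x := E.surjective x
    rw [E.symm_apply_apply,
      show F (E v) = E (fun i => Isoc.stdIsoc (Isoc.frob p k a) (μs i).num (μs i).den (v i)) from
        (phi_std hxs v).symm, E.symm_apply_apply]
  · simp only [Rat.num_div_den]
    let J := {i : Fin t // μs i = μ}
    let ι : ((j : J) → (Fin (μs j.1).den → K(p, k))) →ₗ[K(p, k)]
        ((i : Fin t) → (Fin (μs i).den → K(p, k))) :=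
      LinearMap.pi fun i => if h : μs i = μ then LinearMap.proj (⟨i, h⟩ : J) else 0
    have hι : ∀ w i, ι w i = if h : μs i = μ then w ⟨i, h⟩ else 0 := fun w i => by
      simp only [ι, LinearMap.pi_apply]
      split_ifs <;> rfl
    have hιinj : Function.Injective ι := fun w w' h => funext fun j => by
      have h1 := congrFun h j.1
      rw [hι, hι, dif_pos j.2, dif_pos j.2] at h1
      exact h1
    have hmem : ∀ i, ∀ u, psi F (μs i).den (xs i) u ∈ Isoc.slopePart F (μs i) := fun i u =>
      le_slopePart hτ (stable_range_psi (hxs i)) (isoOn_range_psi (hxs i)) ⟨u, rfl⟩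
    have hrange : LinearMap.range (Φ.comp ι) = Isoc.slopePart F μ := by
      refine le_antisymm ?_ fun y hy => ?_
      · rintro _ ⟨w, rfl⟩
        simp only [Φ, phi, LinearMap.comp_apply, LinearMap.sum_apply, LinearMap.proj_apply]
        refine Submodule.sum_mem _ fun i _ => ?_
        rw [hι]
        split_ifs with h
        · exact le_slopePart hτ (stable_range_psi (hxs i)) (h ▸ isoOn_range_psi (hxs i)) ⟨_, rfl⟩
        · rw [map_zero]; exact zero_mem _
      · obtain ⟨v, rfl⟩ := hsurj y
        let w : (j : J) → (Fin (μs j.1).den → K(p, k)) := fun j => v j.1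
        refine ⟨w, ?_⟩
        have h1 : Φ (v - ι w) ∈ ⨆ (ν : ℚ) (_ : ν ≠ μ), Isoc.slopePart F ν := by
          simp only [Φ, phi, LinearMap.sum_apply, LinearMap.comp_apply, LinearMap.proj_apply]
          refine Submodule.sum_mem _ fun i _ => ?_
          by_cases h : μs i = μ
          · rw [Pi.sub_apply, hι, dif_pos h, sub_self, map_zero]; exact zero_mem _
          · exact Submodule.mem_iSup_of_mem (μs i) (Submodule.mem_iSup_of_mem h (hmem i _))
        have h2 : Φ (ι w) ∈ Isoc.slopePart F μ := by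
          simp only [Φ, phi, LinearMap.sum_apply, LinearMap.comp_apply, LinearMap.proj_apply]
          refine Submodule.sum_mem _ fun i _ => ?_
          rw [hι]
          split_ifs with h
          · exact le_slopePart hτ (stable_range_psi (hxs i)) (h ▸ isoOn_range_psi (hxs i)) ⟨_, rfl⟩
          · rw [map_zero]; exact zero_mem _
        have h3 : Φ (v - ι w) ∈ Isoc.slopePart F μ := by rw [map_sub]; exact sub_mem hy h2
        have h4 := Submodule.disjoint_def.1 (iSupIndep_def.1 (iSupIndep_slopePart hτ hF) μ) _ h3 h1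
        rw [map_sub, sub_eq_zero] at h4
        exact h4.symm
    rw [Isoc.newtonMult, ← hrange, LinearMap.finrank_range_of_inj (f := Φ.comp ι) (fun x y h => hιinj (hinj h)),
      Module.finrank_pi_fintype]
    simp only [Module.finrank_fin_fun]
    rw [← Finset.sum_filter]
    exact Finset.sum_subtype _ (fun i => by simp) (fun i => (μs i).den) |>.symm

end

end Groth.Agent.Lib.Isoc.Manin
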