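import Groth.Prelude.Def_Isoc

/-!
# Orders of scalars in `K(p,k)` and twists preserving `W(k)`
-/

open scoped Isocrystal

universe u

namespace Groth.Agent.Lib.Isoc.Order

noncomputable section

variable {p : ℕ} [Fact p.Prime] {k : Type u} [Field k] [CharP k p]

theorem p_ne_zero : (p : K(p, k)) ≠ 0 := WittVector.FractionRing.p_nonzero p k

theorem algebraMap_injective : Function.Injective (algebraMap (WittVector p k) K(p, k)) :=
  IsFractionRing.injective _ _

theorem not_isUnit_p : ¬ IsUnit (p : WittVector p k) := by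
  intro h
  have := h.map (WittVector.constantCoeff (p := p) (R := k))
  rw [map_natCast, CharP.cast_eq_zero] at this
  exact not_isUnit_zero this

theorem isOrdP_ne_zero {c : K(p, k)} {r : ℤ} (h : Isoc.IsOrdP c r) : c ≠ 0 := by
  obtain ⟨u, rfl⟩ := h
  exact mul_ne_zero (zpow_ne_zero _ p_ne_zero)
    ((map_ne_zero_iff _ algebraMap_injective).2 u.ne_zero)

theorem isOrdP_unit (u : (WittVector p k)ˣ) :
    Isoc.IsOrdP (algebraMap (WittVector p k) K(p, k) (u : WittVector p k)) 0 :=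
  ⟨u, by rw [zpow_zero, one_mul]⟩

theorem isOrdP_one : Isoc.IsOrdP (1 : K(p, k)) 0 := by
  simpa using isOrdP_unit (p := p) (k := k) 1

theorem isOrdP_zpow (r : ℤ) : Isoc.IsOrdP ((p : K(p, k)) ^ r) r := ⟨1, by simp⟩

theorem isOrdP_mul {c d : K(p, k)} {r s : ℤ} (hc : Isoc.IsOrdP c r) (hd : Isoc.IsOrdP d s) :
    Isoc.IsOrdP (c * d) (r + s) := by
  obtain ⟨u, rfl⟩ := hc
  obtain ⟨v, rfl⟩ := hd
  exact ⟨u * v, by rw [zpow_add₀ p_ne_zero, Units.val_mul, map_mul]; ring⟩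

theorem isOrdP_inv {c : K(p, k)} {r : ℤ} (hc : Isoc.IsOrdP c r) : Isoc.IsOrdP c⁻¹ (-r) := by
  obtain ⟨u, rfl⟩ := hc
  refine ⟨u⁻¹, ?_⟩
  rw [mul_inv, zpow_neg, map_units_inv]

theorem isOrdP_unique {c : K(p, k)} {r s : ℤ} (hc : Isoc.IsOrdP c r) (hd : Isoc.IsOrdP c s) :
    r = s := by
  by_contra hne
  wlog hlt : r < s generalizing r s
  · exact this hd hc (Ne.symm hne) (lt_of_le_of_ne (not_lt.1 hlt) (Ne.symm hne))
  obtain ⟨u, hu⟩ := hc
  obtain ⟨v, hv⟩ := hd
  obtain ⟨n, hn⟩ : ∃ n : ℕ, s = r + 1 + n := ⟨(s - r - 1).toNat, by omega⟩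
  rw [hn, zpow_add₀ p_ne_zero, zpow_add₀ p_ne_zero, zpow_one, zpow_natCast, mul_assoc, mul_assoc,
    hu] at hv
  have h2 := mul_left_cancel₀ (zpow_ne_zero r p_ne_zero) hv
  rw [← map_natCast (algebraMap (WittVector p k) K(p, k)) p, ← map_pow, ← map_mul, ← map_mul] at h2
  refine not_isUnit_p (k := k) (p := p) ?_
  have h3 := u.isUnit
  rw [algebraMap_injective h2] at h3
  exact isUnit_of_mul_isUnit_left h3

theorem isOrdP_pow {c : K(p, k)} {r : ℤ} (hc : Isoc.IsOrdP c r) (n : ℕ) :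
    Isoc.IsOrdP (c ^ n) (n * r) := by
  induction n with
  | zero => simpa using isOrdP_one
  | succ n ih =>
    have := isOrdP_mul ih hc
    rw [pow_succ]
    convert this using 1
    push_cast
    ring

theorem mem_range_iff {c : K(p, k)} {r : ℤ} (hc : Isoc.IsOrdP c r) :
    c ∈ (algebraMap (WittVector p k) K(p, k)).range ↔ 0 ≤ r := by
  constructor
  · rintro ⟨w, hw⟩
    by_contra hr
    obtain ⟨n, hn⟩ : ∃ n : ℕ, r = -(n + 1 : ℕ) := ⟨(-r - 1).toNat, by omega⟩
    obtain ⟨u, hu⟩ := hc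
    rw [hn, zpow_neg, zpow_natCast] at hu
    have h2 : algebraMap (WittVector p k) K(p, k) (w * (p : WittVector p k) ^ (n + 1)) =
        algebraMap (WittVector p k) K(p, k) u := by
      rw [map_mul, hw, hu, map_pow, map_natCast, mul_right_comm,
        inv_mul_cancel₀ (pow_ne_zero _ p_ne_zero), one_mul]
    refine not_isUnit_p (k := k) (p := p) ?_
    have h3 : IsUnit ((p : WittVector p k) ^ (n + 1)) :=
      isUnit_of_mul_isUnit_right (algebraMap_injective h2 ▸ u.isUnit)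
    exact (isUnit_pow_iff (by omega)).1 h3
  · intro hr
    obtain ⟨u, rfl⟩ := hc
    obtain ⟨n, rfl⟩ := Int.eq_ofNat_of_zero_le hr
    exact ⟨(p : WittVector p k) ^ n * u, by simp⟩

variable [PerfectRing k p]

theorem exists_isOrdP {c : K(p, k)} (hc : c ≠ 0) : ∃ r : ℤ, Isoc.IsOrdP c r := by
  obtain ⟨a, b, hb, rfl⟩ := IsFractionRing.div_surjective (A := WittVector p k) c
  have ha : a ≠ 0 := fun h => hc (by rw [h, map_zero, zero_div])
  obtain ⟨m, u, hu⟩ := WittVector.exists_eq_pow_p_mul' a ha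
  obtain ⟨n, v, hv⟩ := WittVector.exists_eq_pow_p_mul' b (nonZeroDivisors.ne_zero hb)
  refine ⟨(m : ℤ) + -(n : ℤ), ?_⟩
  have h1 : Isoc.IsOrdP (algebraMap (WittVector p k) K(p, k) a) m := ⟨u, by rw [hu]; simp⟩
  have h2 : Isoc.IsOrdP (algebraMap (WittVector p k) K(p, k) b) n := ⟨v, by rw [hv]; simp⟩
  rw [div_eq_mul_inv]
  exact isOrdP_mul h1 (isOrdP_inv h2)

/-- A twist mapping `W` onto `W`. -/
def Good (τ : K(p, k) →+* K(p, k)) : Prop :=
  ∃ e : WittVector p k ≃+* WittVector p k,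
    ∀ w, τ (algebraMap (WittVector p k) K(p, k) w) = algebraMap (WittVector p k) K(p, k) (e w)

theorem good_frob (a : ℤ) : Good (Isoc.frob p k a) :=
  ⟨WittVector.frobeniusEquiv p k ^ a, Isoc.frob_algebraMap p k a⟩

variable {τ : K(p, k) →+* K(p, k)}

omit [PerfectRing k p] in
theorem good_pow (h : Good τ) : ∀ n : ℕ, Good (τ ^ n)
  | 0 => ⟨RingEquiv.refl _, fun w => rfl⟩
  | n + 1 => by
    obtain ⟨e, he⟩ := h
    obtain ⟨e', he'⟩ := good_pow ⟨e, he⟩ n
    exact ⟨e.trans e', fun w => by rw [pow_succ, RingHom.coe_mul, Function.comp_apply, he, he']; rfl⟩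

omit [PerfectRing k p] in
theorem map_zpow_p (τ : K(p, k) →+* K(p, k)) (r : ℤ) :
    τ ((p : K(p, k)) ^ r) = (p : K(p, k)) ^ r := by
  rw [map_zpow₀, map_natCast]

omit [PerfectRing k p] in
theorem Good.isOrdP (h : Good τ) {c : K(p, k)} {r : ℤ} (hc : Isoc.IsOrdP c r) :
    Isoc.IsOrdP (τ c) r := by
  obtain ⟨e, he⟩ := h
  obtain ⟨u, rfl⟩ := hc
  exact ⟨Units.map e.toRingHom.toMonoidHom u, by rw [map_mul, map_zpow_p, he]; rfl⟩

omit [PerfectRing k p] in
theorem Good.bijective (h : Good τ) : Function.Bijective τ := by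
  obtain ⟨e, he⟩ := h
  refine ⟨τ.injective, fun c => ?_⟩
  obtain ⟨a, b, -, rfl⟩ := IsFractionRing.div_surjective (A := WittVector p k) c
  refine ⟨algebraMap (WittVector p k) K(p, k) (e.symm a) /
    algebraMap (WittVector p k) K(p, k) (e.symm b), ?_⟩
  rw [map_div₀, he, he, e.apply_symm_apply, e.apply_symm_apply]

end

end Groth.Agent.Lib.Isoc.Order
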