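import Groth.Agent.Lib.Isoc.Index
import Groth.Agent.Lib.Isoc.Effective
import Mathlib.Analysis.Subadditive
import Mathlib.NumberTheory.DiophantineApproximation.Basic
import Mathlib.Topology.Algebra.Order.Field
import Mathlib.Analysis.SpecificLimits.Basic

/-!
# The first Newton slope
-/

open scoped Isocrystal Pointwise
open Filter Topology

universe u v

namespace Groth.Agent.Lib.Isoc.Slope

open Groth.Agent.Lib.Isoc.Order Groth.Agent.Lib.Isoc.Lattice Groth.Agent.Lib.Isoc.Det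

noncomputable section

variable {p : ℕ} [Fact p.Prime] {k : Type u} [Field k] [CharP k p] [PerfectRing k p]
variable {N : Type v} [AddCommGroup N] [Module (WittVector p k) N] [Module K(p, k) N]
  [IsScalarTower (WittVector p k) K(p, k) N]
variable {τ : K(p, k) →+* K(p, k)} {F : N →ₛₗ[τ] N} {M M' : Submodule (WittVector p k) N}

omit [PerfectRing k p] in
theorem exists_ne_zero_mem [Nontrivial N] (hM : M.IsLattice K(p, k)) : ∃ m ∈ M, m ≠ 0 := by
  by_contra! hall
  have hle : (⊤ : Submodule K(p, k) N) ≤ ⊥ :=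
    hM.span_eq_top ▸ Submodule.span_le.2 fun x hx => by simp [hall x hx]
  exact top_ne_bot (le_bot_iff.1 hle)

theorem exists_isOrd [Nontrivial N] (hτ : Good τ) (hF : Function.Bijective F)
    (hM : M.IsLattice K(p, k)) (s : ℕ) : ∃ r, Isoc.IsOrd M F s r := by
  obtain ⟨c, hc⟩ := exists_le_pPow hM (isLattice_latImg hτ hF.2 hM s).fg
  obtain ⟨m, hm, hm0⟩ := exists_ne_zero_mem hM
  have hy : (⇑F)^[s] m ≠ 0 := fun h => hm0 ((hF.1.iterate s) (by
    rw [h]; exact (Isoc.iter F s).map_zero.symm))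
  obtain ⟨r0, hr0⟩ := exists_not_le_pPow hM hy
  obtain ⟨r, hr, hmax⟩ := Int.exists_greatest_of_bdd
    (P := fun r => Isoc.latImg F s M ≤ Isoc.pPow r M)
    ⟨r0, fun r hr => by
      by_contra! hlt
      exact hr0 (pPow_anti hlt.le (latImg_le_iff.1 hr m hm))⟩ ⟨c, hc⟩
  exact ⟨r, hr, fun h => by have := hmax _ h; omega⟩

omit [PerfectRing k p] in
theorem le_isOrd {s : ℕ} {r o : ℤ} (ho : Isoc.IsOrd M F s o)
    (hr : Isoc.latImg F s M ≤ Isoc.pPow r M) : r ≤ o := by
  by_contra! hlt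
  exact ho.2 (hr.trans (pPow_anti hlt))

omit [PerfectRing k p] in
theorem isOrd_unique {s : ℕ} {r o : ℤ} (hr : Isoc.IsOrd M F s r) (ho : Isoc.IsOrd M F s o) :
    r = o :=
  le_antisymm (le_isOrd ho hr.1) (le_isOrd hr ho.1)

omit [PerfectRing k p] in
theorem latImg_le_pPow_add (hτ : Good τ) {s t : ℕ} {a b : ℤ}
    (ha : Isoc.latImg F s M ≤ Isoc.pPow a M) (hb : Isoc.latImg F t M ≤ Isoc.pPow b M) :
    Isoc.latImg F (s + t) M ≤ Isoc.pPow (a + b) M := by
  rw [← latImg_latImg hτ, add_comm, ← pPow_pPow]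
  refine (latImg_mono hb s).trans ?_
  rw [latImg_pPow hτ]
  exact pPow_mono ha b

omit [PerfectRing k p] in
theorem latImg_mul_le (hτ : Good τ) {s : ℕ} {r : ℤ}
    (h : Isoc.latImg F s M ≤ Isoc.pPow r M) :
    ∀ n : ℕ, Isoc.latImg F (n * s) M ≤ Isoc.pPow (n * r) M
  | 0 => by simp
  | n + 1 => by
    have := latImg_le_pPow_add hτ (latImg_mul_le hτ h n) h
    convert this using 2
    · ring
    · push_cast; ring

theorem exists_ord_seq [Nontrivial N] (hτ : Good τ) (hF : Isoc.IsIsoc F)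
    (hM : M.IsLattice K(p, k)) :
    ∃ o : ℕ → ℤ, (∀ n : ℕ, 1 ≤ n → Isoc.IsOrd M F n (o n)) ∧
      ∃ lam : ℝ, Tendsto (fun n : ℕ => (o n : ℝ) / n) atTop (𝓝 lam) := by
  have := hF.finite
  choose o ho using exists_isOrd hτ hF.bijective hM
  refine ⟨o, fun n _ => ho n, ?_⟩
  have hsub : Subadditive (fun n => -(o n : ℝ)) := fun m n => by
    have := le_isOrd (ho (m + n)) (latImg_le_pPow_add hτ (ho m).1 (ho n).1)
    have h' : ((o m + o n : ℤ) : ℝ) ≤ (o (m + n) : ℝ) := by exact_mod_cast this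
    push_cast at h'
    linarith
  let b := Module.finBasis K(p, k) N
  obtain ⟨d, hd⟩ := exists_isOrdP_detCoeff b hτ hF.bijective.2
  have hh : 0 < Module.finrank K(p, k) N := Module.finrank_pos
  have hbdd : BddBelow (Set.range fun n : ℕ => -(o n : ℝ) / n) := by
    refine ⟨-|(d : ℝ)|, ?_⟩
    rintro _ ⟨n, rfl⟩
    rcases Nat.eq_zero_or_pos n with rfl | hn
    · simp
    have h1 := (mul_le_of_latImg_le b hτ hd hM (ho n).1).1
    have h2 : o n ≤ n * |d| := by
      by_contra! hlt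
      have : (n : ℤ) * |d| * Module.finrank K(p, k) N < o n * Module.finrank K(p, k) N :=
        mul_lt_mul_of_pos_right hlt (by exact_mod_cast hh)
      have h3 : d ≤ |d| * Module.finrank K(p, k) N :=
        (le_abs_self d).trans (le_mul_of_one_le_right (abs_nonneg d) (by exact_mod_cast hh))
      nlinarith
    have h2' : (o n : ℝ) ≤ n * |(d : ℝ)| := by
      have : ((o n : ℤ) : ℝ) ≤ ((n * |d| : ℤ) : ℝ) := by exact_mod_cast h2
      simpa using this
    rw [le_div_iff₀ (by exact_mod_cast hn)]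
    linarith
  refine ⟨-hsub.lim, ?_⟩
  have := (hsub.tendsto_lim hbdd).neg
  refine this.congr fun n => ?_
  simp [neg_div]

theorem lim_eq_of_isLattice (hτ : Good τ) (hM : M.IsLattice K(p, k))
    (hM' : M'.IsLattice K(p, k)) {o o' : ℕ → ℤ}
    (ho : ∀ n : ℕ, 1 ≤ n → Isoc.IsOrd M F n (o n))
    (ho' : ∀ n : ℕ, 1 ≤ n → Isoc.IsOrd M' F n (o' n)) {lam lam' : ℝ}
    (h : Tendsto (fun n : ℕ => (o n : ℝ) / n) atTop (𝓝 lam))
    (h' : Tendsto (fun n : ℕ => (o' n : ℝ) / n) atTop (𝓝 lam')) : lam = lam' := by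
  suffices key : ∀ (M M' : Submodule (WittVector p k) N) (o o' : ℕ → ℤ) (lam lam' : ℝ),
      M.IsLattice K(p, k) → M'.IsLattice K(p, k) →
      (∀ n : ℕ, 1 ≤ n → Isoc.IsOrd M F n (o n)) → (∀ n : ℕ, 1 ≤ n → Isoc.IsOrd M' F n (o' n)) →
      Tendsto (fun n : ℕ => (o n : ℝ) / n) atTop (𝓝 lam) →
      Tendsto (fun n : ℕ => (o' n : ℝ) / n) atTop (𝓝 lam') → lam ≤ lam' by
    exact le_antisymm (key M M' o o' lam lam' hM hM' ho ho' h h')
      (key M' M o' o lam' lam hM' hM ho' ho h' h)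
  intro M M' o o' lam lam' hM hM' ho ho' h h'
  obtain ⟨c, hc⟩ := exists_pPow_le hM' hM
  obtain ⟨c', hc'⟩ := exists_pPow_le hM hM'
  have hkey : ∀ n : ℕ, 1 ≤ n → o' n ≥ o n - c' - c := by
    intro n hn
    refine le_isOrd (ho' n hn) ?_
    have h1 : Isoc.latImg F n (Isoc.pPow c M') ≤ Isoc.pPow (o n) M :=
      (latImg_mono hc n).trans (ho n hn).1
    rw [latImg_pPow hτ, pPow_le_iff, pPow_pPow] at h1
    have h2 : M ≤ Isoc.pPow (-c') M' := pPow_le_iff.1 hc'
    refine (h1.trans (pPow_mono h2 _)).trans ?_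
    rw [pPow_pPow]
    exact pPow_anti (by omega)
  have hlim : Tendsto (fun n : ℕ => ((o n : ℝ) + (-(c' + c) : ℤ)) / n) atTop (𝓝 lam) := by
    have h2 := h.add (tendsto_const_div_atTop_nhds_zero_nat (((-(c' + c)) : ℤ) : ℝ))
    rw [add_zero] at h2
    exact h2.congr fun n => by ring
  refine le_of_tendsto_of_tendsto hlim h' ?_
  filter_upwards [eventually_ge_atTop 1] with n hn
  have h3 := hkey n hn
  refine div_le_div_of_nonneg_right ?_ (Nat.cast_nonneg n)
  have : ((o n - c' - c : ℤ) : ℝ) ≤ (o' n : ℝ) := by exact_mod_cast h3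
  push_cast at this ⊢
  linarith

theorem isFirstSlope_unique (hτ : Good τ) {lam lam' : ℝ} (h : Isoc.IsFirstSlope F lam)
    (h' : Isoc.IsFirstSlope F lam') : lam = lam' := by
  obtain ⟨M, hM, o, ho, hl⟩ := h
  obtain ⟨M', hM', o', ho', hl'⟩ := h'
  exact lim_eq_of_isLattice hτ hM hM' ho ho' hl hl'

theorem exists_isFirstSlope [Nontrivial N] (hτ : Good τ) (hF : Isoc.IsIsoc F) :
    ∃ lam, Isoc.IsFirstSlope F lam := by
  have := hF.finite
  let b := Module.finBasis K(p, k) N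
  have hlat : (Submodule.span (WittVector p k) (Set.range b)).IsLattice K(p, k) :=
    ⟨Submodule.fg_span (Set.finite_range b), by
      rw [Submodule.span_span_of_tower, b.span_eq]⟩
  obtain ⟨o, ho, lam, hl⟩ := exists_ord_seq hτ hF hlat
  exact ⟨lam, _, hlat, o, ho, hl⟩

theorem isFirstSlope_nontrivial {lam : ℝ} (h : Isoc.IsFirstSlope F lam) : Nontrivial N := by
  obtain ⟨M, -, o, ho, -⟩ := h
  by_contra hN
  rw [not_nontrivial_iff_subsingleton] at hN
  exact (ho 1 le_rfl).2 fun x _ => by rw [Subsingleton.elim x 0]; exact zero_mem _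

theorem exists_seq_of_isFirstSlope (hτ : Good τ) (hF : Isoc.IsIsoc F) {lam : ℝ}
    (h : Isoc.IsFirstSlope F lam) (hM : M.IsLattice K(p, k)) :
    ∃ o : ℕ → ℤ, (∀ n : ℕ, Isoc.IsOrd M F n (o n)) ∧
      Tendsto (fun n : ℕ => (o n : ℝ) / n) atTop (𝓝 lam) := by
  have := isFirstSlope_nontrivial h
  obtain ⟨o, ho, lam', hl⟩ := exists_ord_seq hτ hF hM
  choose o' ho' using exists_isOrd hτ hF.bijective hM
  have hl' : Tendsto (fun n : ℕ => (o' n : ℝ) / n) atTop (𝓝 lam') :=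
    hl.congr' (by
      filter_upwards [eventually_ge_atTop 1] with n hn
      rw [isOrd_unique (ho n hn) (ho' n)])
  obtain rfl := isFirstSlope_unique hτ h ⟨M, hM, o', fun n _ => ho' n, hl'⟩
  exact ⟨o', ho', hl'⟩

theorem le_slope_of_latImg_le (hτ : Good τ) (hF : Isoc.IsIsoc F) {lam : ℝ}
    (h : Isoc.IsFirstSlope F lam) (hM : M.IsLattice K(p, k)) {s : ℕ} (hs : 0 < s) {r : ℤ}
    (hle : Isoc.latImg F s M ≤ Isoc.pPow r M) : (r : ℝ) / s ≤ lam := by
  obtain ⟨o, ho, hl⟩ := exists_seq_of_isFirstSlope hτ hF h hM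
  have hsub : Tendsto (fun n : ℕ => n * s) atTop atTop :=
    tendsto_atTop_mono (fun n => Nat.le_mul_of_pos_right n hs) tendsto_id
  refine le_of_tendsto_of_tendsto tendsto_const_nhds (hl.comp hsub) ?_
  filter_upwards [eventually_ge_atTop 1] with n hn
  have h1 : (((n : ℤ) * r : ℤ) : ℝ) ≤ (o (n * s) : ℝ) := by
    exact_mod_cast le_isOrd (ho (n * s)) (latImg_mul_le hτ hle n)
  simp only [Function.comp_apply]
  have hn' : (0 : ℝ) < n := by exact_mod_cast hn
  have hs' : (0 : ℝ) < s := by exact_mod_cast hs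
  rw [div_le_div_iff₀ hs' (by positivity)]
  push_cast at h1 ⊢
  nlinarith

omit [PerfectRing k p] in
theorem isOrd_tw (hτ : Good τ) {e : ℤ} {n j : ℕ} {r : ℤ} (h : Isoc.IsOrd M F (n * j) r) :
    Isoc.IsOrd M (tw F e n) j ((j : ℤ) * e + r) := by
  refine ⟨?_, fun h' => h.2 ?_⟩
  · rw [latImg_tw hτ, ← pPow_pPow]
    exact pPow_mono h.1 _
  · rw [latImg_tw hτ, add_assoc, ← pPow_pPow, pPow_le_pPow_iff] at h'
    exact h'

theorem isFirstSlope_tw (hτ : Good τ) (hF : Isoc.IsIsoc F) {lam : ℝ}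
    (h : Isoc.IsFirstSlope F lam) (e : ℤ) (n : ℕ) :
    Isoc.IsFirstSlope (tw F e n) (n * lam + e) := by
  obtain ⟨M, hM, -⟩ := id h
  obtain ⟨o, ho, hl⟩ := exists_seq_of_isFirstSlope hτ hF h hM
  refine ⟨M, hM, fun j => (j : ℤ) * e + o (n * j), fun j _ => isOrd_tw hτ (ho (n * j)), ?_⟩
  have hmain : Tendsto (fun j : ℕ => (o (n * j) : ℝ) / j) atTop (𝓝 (n * lam)) := by
    rcases Nat.eq_zero_or_pos n with rfl | hn
    · simp only [zero_mul, CharP.cast_eq_zero]
      exact tendsto_const_div_atTop_nhds_zero_nat _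
    have hsub : Tendsto (fun j : ℕ => n * j) atTop atTop :=
      tendsto_atTop_mono (fun j => Nat.le_mul_of_pos_left j hn) tendsto_id
    have h2 := (hl.comp hsub).const_mul (n : ℝ)
    refine h2.congr fun j => ?_
    have hn' : (n : ℝ) ≠ 0 := by exact_mod_cast hn.ne'
    simp only [Function.comp_apply]
    push_cast
    rw [mul_div_assoc', mul_div_mul_left _ _ hn']
  refine (hmain.add_const (e : ℝ)).congr' ?_
  filter_upwards [eventually_ge_atTop 1] with j hj
  have : (j : ℝ) ≠ 0 := by exact_mod_cast (show j ≠ 0 by omega)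
  push_cast
  field_simp
  ring

theorem exists_stable_of_slope_nonneg (hτ : Good τ) (hF : Isoc.IsIsoc F) {lam : ℝ}
    (h : Isoc.IsFirstSlope F lam) (h0 : 0 ≤ lam) :
    ∃ X : Submodule (WittVector p k) N, X.IsLattice K(p, k) ∧ Isoc.latImg F 1 X ≤ X := by
  have := hF.finite
  obtain ⟨M, hM, -⟩ := id h
  obtain ⟨o, ho, hl⟩ := exists_seq_of_isFirstSlope hτ hF h hM
  refine Effective.exists_stable_lattice hτ hM fun ε hε => ?_
  obtain ⟨n0, hn0⟩ := eventually_atTop.1
    (hl.eventually (eventually_ge_nhds (show lam - ε < lam by linarith)))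
  refine ⟨∑ i ∈ Finset.range (n0 + 1), |(o i : ℝ)|, fun i => ⟨o i, ?_, (ho i).1⟩⟩
  have hS : (0 : ℝ) ≤ ∑ i ∈ Finset.range (n0 + 1), |(o i : ℝ)| :=
    Finset.sum_nonneg fun _ _ => abs_nonneg _
  by_cases hi : i ≤ n0
  · have h1 := Finset.single_le_sum (f := fun i => |(o i : ℝ)|) (fun j _ => abs_nonneg _)
      (Finset.mem_range.2 (show i < n0 + 1 by omega))
    have h2 := neg_abs_le (o i : ℝ)
    have h3 : (0 : ℝ) ≤ ε * i := by positivity
    try simp only at h1
    linarith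
  · have h1 := hn0 i (by omega)
    have hi0 : (0 : ℝ) < i := by exact_mod_cast (show 0 < i by omega)
    rw [le_div_iff₀ hi0] at h1
    nlinarith

theorem one_le_mul_of_slope_pos (hτ : Good τ) (hF : Isoc.IsIsoc F) {lam : ℝ}
    (h : Isoc.IsFirstSlope F lam) (h0 : 0 < lam) :
    1 ≤ lam * Module.finrank K(p, k) N := by
  have := hF.finite
  have := isFirstSlope_nontrivial h
  obtain ⟨X, hX, hFX⟩ := exists_stable_of_slope_nonneg hτ hF h h0.le
  obtain ⟨o, ho, hl⟩ := exists_seq_of_isFirstSlope hτ hF h hX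
  obtain ⟨n, hn, hpos⟩ : ∃ n, 1 ≤ n ∧ 1 ≤ o n := by
    obtain ⟨n1, hn1⟩ := eventually_atTop.1
      (hl.eventually (eventually_gt_nhds (show (0 : ℝ) < lam from h0)))
    refine ⟨max n1 1, le_max_right _ _, ?_⟩
    have h1 := hn1 (max n1 1) (le_max_left _ _)
    have hpos : (0 : ℝ) < ((max n1 1 : ℕ) : ℝ) := by exact_mod_cast Nat.lt_of_lt_of_le Nat.zero_lt_one (le_max_right n1 1)
    have : (0 : ℝ) < (o (max n1 1) : ℝ) := by
      rcases le_or_gt (o (max n1 1) : ℝ) 0 with h2 | h2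
      · exact absurd h1 (not_lt.2 (div_nonpos_of_nonpos_of_nonneg h2 hpos.le))
      · exact h2
    have : (0 : ℤ) < o (max n1 1) := by exact_mod_cast this
    omega
  have hb := Module.finBasis K(p, k) N
  have h1 := Index.latImg_le_of_nilpotent hτ hb hX hFX ((ho n).1.trans (pPow_anti hpos))
  have h2 := le_slope_of_latImg_le hτ hF h hX Module.finrank_pos h1
  have hh : (0 : ℝ) < Module.finrank K(p, k) N := by exact_mod_cast Module.finrank_pos
  rw [div_le_iff₀ hh] at h2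
  simpa using h2

theorem exists_rat_eq_slope (hτ : Good τ) (hF : Isoc.IsIsoc F) {lam : ℝ}
    (h : Isoc.IsFirstSlope F lam) :
    ∃ (r : ℤ) (s : ℕ), 0 < s ∧ s ≤ Module.finrank K(p, k) N ∧ lam = (r : ℝ) / s := by
  have := hF.finite
  have := isFirstSlope_nontrivial h
  have hh : 0 < Module.finrank K(p, k) N := Module.finrank_pos
  have hh' : (0 : ℝ) < Module.finrank K(p, k) N := by exact_mod_cast hh
  have key : ∀ (s : ℕ) (e : ℤ), 0 < s * lam + e → 1 ≤ (s * lam + e) * Module.finrank K(p, k) N :=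
    fun s e hpos => one_le_mul_of_slope_pos (good_pow hτ s) (isIsoc_tw hF e s)
      (isFirstSlope_tw hτ hF h e s) hpos
  obtain ⟨j, m, hm0, hmle, hapx⟩ := Real.exists_int_int_abs_mul_sub_le lam hh
  obtain ⟨s, rfl⟩ := Int.eq_ofNat_of_zero_le hm0.le
  refine ⟨j, s, by omega, by omega, ?_⟩
  have hs : (0 : ℝ) < s := by exact_mod_cast (show 0 < s by omega)
  push_cast at hapx
  have hsmall : 1 / ((Module.finrank K(p, k) N : ℝ) + 1) * Module.finrank K(p, k) N < 1 := by
    rw [div_mul_eq_mul_div, one_mul, div_lt_one (by linarith)]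
    linarith
  rw [eq_div_iff hs.ne', mul_comm]
  by_contra hne
  rcases lt_or_gt_of_ne hne with hlt | hgt
  · set δ := (j : ℝ) - s * lam with hδ
    have hδpos : 0 < δ := by linarith
    have hδle : δ ≤ 1 / ((Module.finrank K(p, k) N : ℝ) + 1) := by
      rw [abs_le] at hapx
      linarith [hapx.1]
    obtain ⟨c, hc⟩ : ∃ c : ℕ, c = ⌈1 / δ⌉₊ - 1 := ⟨_, rfl⟩
    have hceil : 1 ≤ ⌈1 / δ⌉₊ := Nat.one_le_ceil_iff.2 (by positivity)
    have h1 : (c : ℝ) + 1 = (⌈1 / δ⌉₊ : ℝ) := by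
      rw [hc, Nat.cast_sub hceil]; push_cast; ring
    have h2 := Nat.le_ceil (1 / δ)
    have h3 : (⌈1 / δ⌉₊ : ℝ) < 1 / δ + 1 := Nat.ceil_lt_add_one (by positivity)
    rw [← h1] at h2 h3
    have h4 : (c : ℝ) * δ < 1 := by
      have : (c : ℝ) < 1 / δ := by linarith
      rwa [lt_div_iff₀ hδpos] at this
    have h5 : 1 ≤ ((c : ℝ) + 1) * δ := by rwa [div_le_iff₀ hδpos] at h2
    have := key (c * s) (-((c : ℤ) * j) + 1) (by
      push_cast
      rw [hδ] at h4
      nlinarith)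
    push_cast at this
    have hval : (c : ℝ) * s * lam + (-((c : ℝ) * j) + 1) = 1 - c * δ := by rw [hδ]; ring
    rw [hval] at this
    have : (1 - c * δ) * (Module.finrank K(p, k) N : ℝ) ≤ δ * Module.finrank K(p, k) N :=
      mul_le_mul_of_nonneg_right (by nlinarith) hh'.le
    have : δ * (Module.finrank K(p, k) N : ℝ) < 1 := lt_of_le_of_lt
      (mul_le_mul_of_nonneg_right hδle hh'.le) hsmall
    linarith
  · have := key s (-j) (by push_cast; linarith)
    push_cast at this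
    have h6 : s * lam + -(j : ℝ) ≤ 1 / ((Module.finrank K(p, k) N : ℝ) + 1) := by
      rw [abs_le] at hapx
      linarith [hapx.2]
    have := mul_le_mul_of_nonneg_right h6 hh'.le
    linarith

theorem exists_lattice_le_pPow (hτ : Good τ) (hF : Isoc.IsIsoc F) {lam : ℝ}
    (h : Isoc.IsFirstSlope F lam) {r : ℤ} {s : ℕ} (hs : 0 < s) (hrs : (r : ℝ) / s ≤ lam) :
    ∃ M : Submodule (WittVector p k) N,
      M.IsLattice K(p, k) ∧ Isoc.latImg F s M ≤ Isoc.pPow r M := by
  have hs' : (0 : ℝ) < s := by exact_mod_cast hs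
  rw [div_le_iff₀ hs'] at hrs
  obtain ⟨X, hX, hle⟩ := exists_stable_of_slope_nonneg (good_pow hτ s) (isIsoc_tw hF (-r) s)
    (isFirstSlope_tw hτ hF h (-r) s) (by push_cast; linarith)
  refine ⟨X, hX, ?_⟩
  rw [latImg_tw hτ, mul_one, pPow_le_iff] at hle
  simpa using hle

end

end Groth.Agent.Lib.Isoc.Slope
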